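import Cfsg.Agent.J2SylShape96.Classes

/-!
The quotient by the central involution satisfies the hypotheses of the theorem on elementary abelian
subgroups of order sixteen with automiser the alternating group of degree five.
-/

set_option autoImplicit false
set_option linter.style.haveILetI false
set_option linter.unusedSectionVars false

universe u

namespace CfsgLib.J2SylShape96

open Cfsg
open CfsgLib.EightType55 (A5 fourV coreOf Setting)
open CfsgLib.StronglyEmbedded (orderOf_two_iff)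

local instance : Fact (Nat.Prime 2) := ⟨Nat.prime_two⟩

namespace Frame

variable {X : Type u} [Group X] [Finite X] (F : Frame X)

/-- the centre subgroup generated by `Z` -/
noncomputable def Kz : Subgroup X := Subgroup.zpowers F.Z

theorem mem_Kz {x : X} : x ∈ F.Kz ↔ x = 1 ∨ x = F.Z := by
  constructor
  · intro hx
    obtain ⟨i, rfl⟩ := Subgroup.mem_zpowers_iff.1 hx
    rcases Int.even_or_odd i with ⟨j, rfl⟩ | ⟨j, rfl⟩
    · left; rw [← two_mul, zpow_mul, zpow_two, F.Z_mul_self, one_zpow]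
    · right; rw [zpow_add, zpow_mul, zpow_two, F.Z_mul_self, one_zpow, one_mul, zpow_one]
  · rintro (rfl | rfl)
    exacts [one_mem _, Subgroup.mem_zpowers _]

theorem Kz_normal (hz : ∀ x, x * F.Z = F.Z * x) : F.Kz.Normal := by
  refine ⟨fun x hx g => ?_⟩
  rcases F.mem_Kz.1 hx with rfl | rfl
  · rw [mul_one, mul_inv_cancel]; exact one_mem _
  · rw [hz, mul_inv_cancel_right]; exact F.mem_Kz.2 (Or.inr rfl)

variable [hn : F.Kz.Normal]

/-- the projection modulo the central involution -/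
noncomputable def proj : X →* X ⧸ F.Kz := QuotientGroup.mk' F.Kz

theorem proj_surjective : Function.Surjective F.proj := QuotientGroup.mk'_surjective _

theorem proj_eq_one {x : X} : F.proj x = 1 ↔ x = 1 ∨ x = F.Z := by
  rw [← F.mem_Kz]; exact QuotientGroup.eq_one_iff x

theorem proj_Z : F.proj F.Z = 1 := F.proj_eq_one.2 (Or.inr rfl)

theorem proj_eq {x y : X} : F.proj x = F.proj y ↔ x = y ∨ x = y * F.Z := by
  constructor
  · intro h
    rcases F.proj_eq_one.1 (show F.proj (y⁻¹ * x) = 1 by rw [map_mul, map_inv, h, inv_mul_cancel])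
      with e | e
    · exact Or.inl (inv_mul_eq_one.1 e).symm
    · exact Or.inr (eq_mul_of_inv_mul_eq e)
  · rintro (rfl | rfl)
    · rfl
    · rw [map_mul, F.proj_Z, mul_one]

/-- the image of the extraspecial subgroup -/
noncomputable def Abar : Subgroup (X ⧸ F.Kz) := F.Q.map F.proj

theorem proj_mem_Abar {x : X} : F.proj x ∈ F.Abar ↔ x ∈ F.Q := by
  refine ⟨fun ⟨y, hy, he⟩ => ?_, fun h => ⟨x, h, rfl⟩⟩
  rcases F.proj_eq.1 he.symm with e | e <;> rw [e]
  exacts [hy, mul_mem hy F.Z_mem_Q]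

theorem proj_mem_normalizer {x : X} :
    F.proj x ∈ Subgroup.normalizer (F.Abar : Set (X ⧸ F.Kz)) ↔
      x ∈ Subgroup.normalizer (F.Q : Set X) := by
  simp only [Subgroup.mem_normalizer_iff]
  refine ⟨fun h q => ?_, fun h q => ?_⟩
  · rw [← F.proj_mem_Abar, ← F.proj_mem_Abar, map_mul, map_mul, map_inv]
    exact h _
  · obtain ⟨q, rfl⟩ := F.proj_surjective q
    rw [← map_inv, ← map_mul, ← map_mul, F.proj_mem_Abar, F.proj_mem_Abar]
    exact h q

theorem elem_Abar : IsElementaryAbelian 2 F.Abar := by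
  refine ⟨⟨⟨?_⟩⟩, ?_⟩
  · rintro ⟨_, ⟨_, ⟨a, ha, rfl⟩, rfl⟩⟩ ⟨_, ⟨_, ⟨b, hb, rfl⟩, rfl⟩⟩
    refine Subtype.ext ?_
    show F.proj (F.emb a) * F.proj (F.emb b) = F.proj (F.emb b) * F.proj (F.emb a)
    rw [← map_mul, ← map_mul, ← map_mul, ← map_mul]
    refine (F.proj_eq).2 ((conj_Qm ha hb).imp (fun e => ?_) (fun e => ?_))
    · rw [show a * b = b * a from mul_inv_eq_iff_eq_mul.1 e]
    · rw [mul_inv_eq_iff_eq_mul.1 e, mul_assoc b zm, zm_comm, ← mul_assoc, map_mul]; rfl
  · rintro _ ⟨_, ⟨a, ha, rfl⟩, rfl⟩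
    rw [← map_pow, ← map_pow, sq]
    refine F.proj_eq_one.2 ((sq_Qm ha).imp (fun e => ?_) (fun e => ?_)) <;> rw [e]
    · exact map_one _
    · rfl

/-- the image of the Sylow subgroup -/
noncomputable def Sbar : Sylow 2 (X ⧸ F.Kz) := F.S.mapSurjective F.proj_surjective

theorem mem_Sbar {y : X ⧸ F.Kz} :
    y ∈ (F.Sbar : Subgroup (X ⧸ F.Kz)) ↔ ∃ t, F.proj (F.emb t) = y := by
  show y ∈ (F.S : Subgroup X).map F.proj ↔ _
  refine ⟨fun ⟨x, hx, he⟩ => ?_, fun ⟨t, ht⟩ => ⟨_, F.emb_mem t, ht⟩⟩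
  obtain ⟨t, rfl⟩ := F.exists_of_mem hx
  exact ⟨t, he⟩

theorem card_map_proj {H : Subgroup X} (hH : F.Z ∈ H) :
    Nat.card (H.map F.proj) * 2 = Nat.card H := by
  have h := (F.proj.comp H.subtype).ker.index_mul_card
  rw [Subgroup.index_ker, MonoidHom.range_comp, Subgroup.range_subtype] at h
  have e : (F.proj.comp H.subtype).ker = F.Kz.subgroupOf H := by
    ext x; exact QuotientGroup.eq_one_iff _
  rw [e, Nat.card_congr (Subgroup.subgroupOfEquivOfLe (H := F.Kz) (K := H) (by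
    intro x hx
    rcases F.mem_Kz.1 hx with rfl | rfl
    exacts [one_mem _, hH])).toEquiv,
    show Nat.card F.Kz = 2 from (Nat.card_zpowers _).trans
      (orderOf_eq_prime (by rw [sq, F.Z_mul_self]) F.Z_ne_one)] at h
  exact h

theorem Z_mem_normalizer : F.Z ∈ Subgroup.normalizer (F.Q : Set X) := F.emb_mem_normalizer zm

theorem labA_Z : F.labA ⟨F.Z, F.Z_mem_normalizer⟩ = 1 := by
  show F.labA ⟨F.emb zm, _⟩ = 1
  rw [F.labA_emb, v_zm]
  rfl

/-- The quotient satisfies the hypotheses. -/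
theorem setting_quot (hz : ∀ x, x * F.Z = F.Z * x) (honto : Function.Surjective F.labA) :
    Nonempty (Setting F.Abar) := by
  set N := Subgroup.normalizer (F.Q : Set X)
  set NA := Subgroup.normalizer (F.Abar : Set (X ⧸ F.Kz))
  set f : N →* NA := (F.proj.comp N.subtype).codRestrict NA fun n => F.proj_mem_normalizer.2 n.2
  have hf : Function.Surjective f := by
    rintro ⟨y, hy⟩
    obtain ⟨x, rfl⟩ := F.proj_surjective y
    exact ⟨⟨x, F.proj_mem_normalizer.1 hy⟩, rfl⟩
  have hle : f.ker ≤ F.labA.ker := by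
    rintro ⟨n, hnN⟩ hn
    have h1 : F.proj n = 1 := congrArg Subtype.val hn
    rcases F.proj_eq_one.1 h1 with rfl | rfl
    · exact MonoidHom.mem_ker.2 (map_one F.labA)
    · exact MonoidHom.mem_ker.2 F.labA_Z
  set φ : NA →* A5 :=
    f.liftOfRightInverse (Function.surjInv hf) (Function.rightInverse_surjInv hf) ⟨F.labA, hle⟩
  have hφ : ∀ n : N, φ (f n) = F.labA n := fun n =>
    MonoidHom.liftOfRightInverse_comp_apply _ _ _ _ n
  have hAN : F.Abar ≤ NA := Subgroup.le_normalizer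
  have hcomm : ∀ a ∈ F.Abar, ∀ b ∈ F.Abar, a * b = b * a := fun a ha b hb =>
    congrArg Subtype.val (F.elem_Abar.1.1.comm (⟨a, ha⟩ : F.Abar) ⟨b, hb⟩)
  have hker : ∀ n : NA, φ n = 1 ↔ (n : X ⧸ F.Kz) ∈ Subgroup.centralizer (F.Abar : Set (X ⧸ F.Kz)) := by
    intro n
    obtain ⟨⟨n, hnN⟩, rfl⟩ := hf n
    rw [hφ]
    constructor
    · intro h1
      obtain ⟨c, hc, hcn⟩ := F.exists_cent_of_lab hnN (congrArg Subtype.val h1)
      refine Subgroup.mem_centralizer_iff.2 ?_
      rintro _ ⟨q, hq, rfl⟩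
      show F.proj q * F.proj n = F.proj n * F.proj q
      have h2 : q * (c⁻¹ * n) = c⁻¹ * n * q := Subgroup.mem_centralizer_iff.1 hcn q hq
      have h3 := hcomm _ (F.proj_mem_Abar.2 hq) _ (F.proj_mem_Abar.2 hc)
      calc F.proj q * F.proj n = F.proj q * F.proj c * F.proj (c⁻¹ * n) := by
            rw [map_mul, map_inv]; group
        _ = F.proj c * F.proj (q * (c⁻¹ * n)) := by rw [h3, mul_assoc, ← map_mul]
        _ = F.proj n * F.proj q := by rw [h2, ← map_mul, ← map_mul]; congr 1; group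
    · intro hc
      refine Subtype.ext (Equiv.ext fun i => ?_)
      show F.lab ⟨n, hnN⟩ i = i
      have h1 := Subgroup.mem_centralizer_iff.1 hc _
        (F.proj_mem_Abar.2 (F.emb_mem_Q.2 (pt_mem i)))
      have h2 : F.proj (n * F.emb (pt i) * n⁻¹) = F.proj (F.emb (pt i)) := by
        rw [map_mul, map_mul, map_inv]
        rw [show F.proj n * F.proj (F.emb (pt i)) = F.proj (F.emb (pt i)) * F.proj n from h1.symm,
          mul_inv_cancel_right]
      obtain ⟨u, hu, hlab, -⟩ := F.lab_spec hnN i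
      rw [hlab]
      rw [hu] at h2
      rcases F.proj_eq.1 h2 with e | e
      · rw [F.emb_injective e, labF_pt]
      · rw [F.emb_injective (e.trans (map_mul F.emb _ zm).symm), labF_mul_zm (pt_mem i), labF_pt]
  have hSN : (F.Sbar : Subgroup (X ⧸ F.Kz)) ≤ NA := fun y hy => by
    obtain ⟨t, rfl⟩ := F.mem_Sbar.1 hy
    exact F.proj_mem_normalizer.2 (F.emb_mem_normalizer t)
  have hAS : F.Abar ≤ (F.Sbar : Subgroup (X ⧸ F.Kz)) := Subgroup.map_mono F.Q_le
  have h16 : Nat.card F.Abar = 16 := by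
    have := F.card_map_proj F.Z_mem_Q
    rw [F.card_Q] at this
    show Nat.card (F.Q.map F.proj) = 16
    omega
  have h64 : Nat.card (F.Sbar : Subgroup (X ⧸ F.Kz)) = 64 := by
    have := F.card_map_proj (H := (F.S : Subgroup X)) (F.emb_mem zm)
    rw [Nat.card_congr F.φ.toEquiv, card_Tm] at this
    show Nat.card ((F.S : Subgroup X).map F.proj) = 64
    omega
  have hcenter : Nat.card (Subgroup.center (F.Sbar : Subgroup (X ⧸ F.Kz))) ≤ 2 := by
    set ebar := F.proj F.E
    have hmem : ∀ s : Subgroup.center (F.Sbar : Subgroup (X ⧸ F.Kz)),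
        ((s : (F.Sbar : Subgroup (X ⧸ F.Kz))) : X ⧸ F.Kz) ∈ Subgroup.zpowers ebar := by
      rintro ⟨⟨y, hy⟩, hc⟩
      obtain ⟨t, rfl⟩ := F.mem_Sbar.1 hy
      have ht : InZ3 t := centerMod fun u => by
        have h1 : F.proj (F.emb u) * F.proj (F.emb t) = F.proj (F.emb t) * F.proj (F.emb u) :=
          congrArg Subtype.val (Subgroup.mem_center_iff.1 hc ⟨_, F.mem_Sbar.2 ⟨u, rfl⟩⟩)
        have h2 : F.proj (F.emb (u * t * u⁻¹)) = F.proj (F.emb t) := by
          rw [map_mul, map_mul, map_inv, map_mul, map_mul, map_inv, h1, mul_inv_cancel_right]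
        exact (F.proj_eq.1 h2).imp (fun e => F.emb_injective e)
          fun e => F.emb_injective (e.trans (map_mul F.emb t zm).symm)
      show F.proj (F.emb t) ∈ _
      rcases ht with rfl | rfl | rfl | rfl
      · rw [map_one, map_one]; exact one_mem _
      · rw [show F.emb zm = F.Z from rfl, F.proj_Z]; exact one_mem _
      · exact Subgroup.mem_zpowers _
      · rw [map_mul, map_mul, show F.emb zm = F.Z from rfl, F.proj_Z, mul_one]
        exact Subgroup.mem_zpowers _
    refine (Nat.card_le_card_of_injective (fun s => (⟨_, hmem s⟩ : Subgroup.zpowers ebar))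
      fun a b e => Subtype.ext (Subtype.ext (congrArg (fun x : Subgroup.zpowers ebar => x.1) e))).trans ?_
    rw [Nat.card_zpowers]
    exact Nat.le_of_dvd (by norm_num) (orderOf_dvd_of_pow_eq_one (by
      rw [← map_pow, sq, F.E_facts.1, map_one]))
  have himgS : ∀ g : A5, g ∈ fourV ↔
      ∃ s : NA, (s : X ⧸ F.Kz) ∈ (F.Sbar : Subgroup (X ⧸ F.Kz)) ∧ φ s = g := by
    intro g
    constructor
    · intro hg
      obtain ⟨t, ht⟩ := F.exists_emb_labA hg
      exact ⟨f ⟨_, F.emb_mem_normalizer t⟩, F.mem_Sbar.2 ⟨t, rfl⟩, (hφ _).trans ht⟩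
    · rintro ⟨⟨s, hs'⟩, hs, rfl⟩
      obtain ⟨t, rfl⟩ := F.mem_Sbar.1 hs
      rw [show (⟨F.proj (F.emb t), hs'⟩ : NA) = f ⟨_, F.emb_mem_normalizer t⟩ from rfl, hφ,
        F.labA_emb]
      exact hperm_mem _
  have hcent : ∀ c ∈ Subgroup.centralizer (F.Abar : Set (X ⧸ F.Kz)),
      ∃ a ∈ F.Abar, ∃ o ∈ coreOf NA, c = a * o := by
    intro c hc
    have hcN : c ∈ NA := by
      refine Subgroup.mem_normalizer_fintype fun x hx => ?_
      rw [← Subgroup.mem_centralizer_iff.1 hc x hx, mul_inv_cancel_right]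
      exact hx
    obtain ⟨⟨n, hnN⟩, hfn⟩ := hf ⟨c, hcN⟩
    have hcn : F.proj n = c := congrArg Subtype.val hfn
    have h1 : F.labA ⟨n, hnN⟩ = 1 := by
      rw [← hφ, hfn]; exact (hker _).2 hc
    obtain ⟨d, hd, hdn⟩ := F.exists_cent_of_lab hnN (congrArg Subtype.val h1)
    set R : Subgroup (X ⧸ F.Kz) := (coreOf N).map F.proj
    have hR : R ≤ coreOf NA := by
      refine EightType55.le_coreOf ?_ ?_ ?_
      · rintro _ ⟨r, hr, rfl⟩
        exact F.proj_mem_normalizer.2 (EightType55.coreOf_le _ hr)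
      · rintro h hh _ ⟨r, hr, rfl⟩
        obtain ⟨x, rfl⟩ := F.proj_surjective h
        exact ⟨x * r * x⁻¹, EightType55.conj_mem_coreOf (F.proj_mem_normalizer.1 hh) hr,
          by rw [map_mul, map_mul, map_inv]⟩
      · exact Odd.of_dvd_nat (EightType55.odd_coreOf N) (Subgroup.card_map_dvd _ _)
    refine ⟨F.proj d, F.proj_mem_Abar.2 hd, F.proj (d⁻¹ * n), ?_, ?_⟩
    · rcases F.centralizer_decomp hz hdn with ho | ho
      · exact hR ⟨_, ho, rfl⟩
      · exact hR ⟨_, ho, by rw [map_mul, F.proj_Z, mul_one]⟩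
    · rw [← map_mul, mul_inv_cancel_left, hcn]
  -- the classes
  have hinv : ∀ t : Tm, (t * t = 1 ∨ t * t = zm) → t ≠ 1 → t ≠ zm →
      orderOf (F.proj (F.emb t)) = 2 := by
    intro t h2 h1 h1z
    refine orderOf_two_iff.2 ⟨?_, fun e => ?_⟩
    · rw [← map_mul, ← map_mul]
      exact F.proj_eq_one.2 (h2.imp (fun e => by rw [e, map_one]) fun e => by rw [e]; rfl)
    · rcases F.proj_eq_one.1 e with e' | e'
      · exact h1 (F.emb_eq_one.1 e')
      · exact h1z (F.emb_injective e')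
  let r : Fin 3 → Tm := ![ee, rr, x0]
  have hr : ∀ i, (r i * r i = 1 ∨ r i * r i = zm) ∧ r i ≠ 1 ∧ r i ≠ zm := by
    decide +kernel
  have hconj : ∀ i j : Fin 3, IsConj (F.proj (F.emb (r i))) (F.proj (F.emb (r j))) → i = j := by
    intro i j hij
    have hsq : r i * r i = r j * r j := by
      obtain ⟨g, hg⟩ := isConj_iff.1 hij
      obtain ⟨g, rfl⟩ := F.proj_surjective g
      rw [← map_inv, ← map_mul, ← map_mul] at hg
      refine F.emb_injective ?_
      have hsqr : g * F.emb (r i * r i) * g⁻¹ = F.emb (r j * r j) := by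
        have e : g * F.emb (r i * r i) * g⁻¹ =
            g * F.emb (r i) * g⁻¹ * (g * F.emb (r i) * g⁻¹) := by rw [map_mul]; group
        rw [e, map_mul]
        rcases F.proj_eq.1 hg with h | h <;> rw [h]
        rw [mul_assoc, ← mul_assoc F.Z, ← hz, mul_assoc (F.emb (r j)) F.Z, F.Z_mul_self, mul_one]
      rw [← hsqr]
      rcases (hr i).1 with h | h <;> rw [h]
      · rw [map_one, mul_one, mul_inv_cancel]
      · show F.Z = g * F.Z * g⁻¹
        rw [hz, mul_inv_cancel_right]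
    have hfuse : ∀ c : X, F.proj (c * F.emb x0 * c⁻¹) ≠ F.proj (F.emb ee) := fun c hc =>
      F.not_fused hz (F.proj_eq.1 hc)
    fin_cases i <;> fin_cases j <;> try rfl
    all_goals exfalso
    · exact absurd hsq (by decide +kernel)
    · obtain ⟨g, hg⟩ := isConj_iff.1 hij.symm
      obtain ⟨g, rfl⟩ := F.proj_surjective g
      rw [← map_inv, ← map_mul, ← map_mul] at hg
      exact hfuse g hg
    · exact absurd hsq (by decide +kernel)
    · exact absurd hsq (by decide +kernel)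
    · obtain ⟨g, hg⟩ := isConj_iff.1 hij
      obtain ⟨g, rfl⟩ := F.proj_surjective g
      rw [← map_inv, ← map_mul, ← map_mul] at hg
      exact hfuse g hg
    · exact absurd hsq (by decide +kernel)
  have hclasses :
      Nat.card {c : ConjClasses (X ⧸ F.Kz) // ∃ x ∈ c.carrier, orderOf x = 2} = 3 := by
    refine (Nat.card_eq_of_bijective
      (fun i => (⟨ConjClasses.mk (F.proj (F.emb (r i))), _, ConjClasses.mem_carrier_mk,
        hinv _ (hr i).1 (hr i).2.1 (hr i).2.2⟩ :
        {c : ConjClasses (X ⧸ F.Kz) // ∃ x ∈ c.carrier, orderOf x = 2})) ⟨?_, ?_⟩).symm.trans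
      (Nat.card_fin 3)
    · intro i j h
      exact hconj i j (ConjClasses.mk_eq_mk_iff_isConj.1 (congrArg Subtype.val h))
    · rintro ⟨c, y, hy, hy2⟩
      obtain ⟨T, hT⟩ := (EightType55.isPGroup_zpowers hy2).exists_le_sylow
      obtain ⟨g, hg⟩ := MulAction.exists_smul_eq (X ⧸ F.Kz) T F.Sbar
      have hgy : g * y * g⁻¹ ∈ (F.Sbar : Subgroup (X ⧸ F.Kz)) := by
        rw [← hg]; exact ⟨y, hT (Subgroup.mem_zpowers y), rfl⟩
      obtain ⟨t, ht⟩ := F.mem_Sbar.1 hgy
      have ho : orderOf (F.proj (F.emb t)) = 2 := by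
        rw [ht, StronglyEmbedded.orderOf_conj]; exact hy2
      obtain ⟨hsq, hne⟩ := orderOf_two_iff.1 ho
      have h2 : t * t = 1 ∨ t * t = zm := by
        rw [← map_mul, ← map_mul] at hsq
        exact (F.proj_eq_one.1 hsq).imp (fun e => F.emb_eq_one.1 e) fun e => F.emb_injective e
      have h1 : t ≠ 1 := fun e => hne (by rw [e, map_one, map_one])
      have h1z : t ≠ zm := fun e => hne (by rw [e]; exact F.proj_Z)
      obtain ⟨d, s, hs, hd⟩ := F.three_types honto h2 h1 h1z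
      obtain ⟨i, rfl⟩ : ∃ i, r i = s := by
        simp only [Set.mem_insert_iff, Set.mem_singleton_iff] at hs
        rcases hs with rfl | rfl | rfl
        exacts [⟨0, rfl⟩, ⟨1, rfl⟩, ⟨2, rfl⟩]
      refine ⟨i, Subtype.ext ?_⟩
      show ConjClasses.mk (F.proj (F.emb (r i))) = c
      have hd' : F.proj d * F.proj (F.emb t) * (F.proj d)⁻¹ = F.proj (F.emb (r i)) := by
        rw [← map_inv, ← map_mul, ← map_mul]
        exact F.proj_eq.2 hd
      rw [← ConjClasses.mem_carrier_iff_mk_eq.1 hy]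
      refine ConjClasses.mk_eq_mk_iff_isConj.2 (IsConj.symm (isConj_iff.2 ⟨F.proj d * g, ?_⟩))
      rw [← hd', ht]; group
  exact ⟨⟨F.elem_Abar, h16, F.Sbar, hAS, hSN, h64, hcenter, φ, fun g => by
      obtain ⟨n, hn⟩ := honto g
      exact ⟨f n, (hφ n).trans hn⟩, hker, himgS, hcent, hclasses⟩⟩

end Frame

namespace Frame

variable {X : Type u} [Group X] [Finite X] (F : Frame X)

/-- The extraspecial subgroup is normal modulo the odd core. -/
theorem Q_sup_core_normal (hz : ∀ x, x * F.Z = F.Z * x) (honto : Function.Surjective F.labA) :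
    (F.Q ⊔ oddCore X).Normal := by
  haveI := F.Kz_normal hz
  haveI hO : (oddCore X).Normal := pPrimeCore_normal 2 X
  obtain ⟨h⟩ := F.setting_quot hz honto
  have hN := h.normal_sup_oddCore
  set O1 := oddCore (X ⧸ F.Kz)
  haveI hO1 : O1.Normal := pPrimeCore_normal 2 _
  set R : Subgroup X := O1.comap F.proj
  haveI : R.Normal := hO1.comap _
  have hZR : F.Z ∈ R := by
    show F.proj F.Z ∈ O1
    rw [F.proj_Z]; exact one_mem _
  have hodd : ¬ 2 ∣ Nat.card O1 := Constrained.pPrimeCore_not_dvd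
  have h4 : ¬ 4 ∣ Nat.card R := by
    have hc := F.card_map_proj hZR
    rw [show R.map F.proj = O1 from Subgroup.map_comap_eq_self_of_surjective F.proj_surjective _] at hc
    rw [← hc]
    omega
  have hord : orderOf (⟨F.Z, hZR⟩ : R) = 2 := by
    rw [Subgroup.orderOf_mk]
    exact orderOf_eq_prime (by rw [sq, F.Z_mul_self]) F.Z_ne_one
  have hle : (pPrimeCore 2 R).map R.subtype ≤ oddCore X :=
    SelfCentPrime.le_pPrimeCore_of_normal_normal R _ (pPrimeCore_normal 2 R)
      ((Nat.Prime.coprime_iff_not_dvd Nat.prime_two).2 Constrained.pPrimeCore_not_dvd).symm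
  have hcomap : (F.Abar ⊔ O1).comap F.proj ≤ F.Q ⊔ oddCore X := by
    intro x hx
    obtain ⟨_, ⟨a, ha, rfl⟩, o, ho, he⟩ :=
      EightType55.exists_mul_of_mem_sup (A := F.Abar) (R := O1)
        (fun a _ r hr => hO1.conj_mem r hr a) (show F.proj x ∈ F.Abar ⊔ O1 from hx)
    have hr : a⁻¹ * x ∈ R := by
      show F.proj (a⁻¹ * x) ∈ O1
      rw [map_mul, map_inv, he, inv_mul_cancel_left]
      exact ho
    rw [show x = a * (a⁻¹ * x) by group]
    refine mul_mem (Subgroup.mem_sup_left ha) ?_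
    rcases mem_core_or (⟨F.Z, hZR⟩ : R) hord (fun h => Subtype.ext (hz h)) h4 ⟨_, hr⟩ with h | h
    · exact Subgroup.mem_sup_right (hle ⟨_, h, rfl⟩)
    · have h' : a⁻¹ * x * F.Z ∈ F.Q ⊔ oddCore X := Subgroup.mem_sup_right (hle ⟨_, h, rfl⟩)
      have := mul_mem h' (Subgroup.mem_sup_left F.Z_mem_Q)
      rwa [mul_assoc, F.Z_mul_self, mul_one] at this
  refine ⟨fun x hx g => ?_⟩
  obtain ⟨a, ha, o, ho, rfl⟩ :=
    EightType55.exists_mul_of_mem_sup (fun a _ r hr => hO.conj_mem r hr a) hx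
  rw [show g * (a * o) * g⁻¹ = g * a * g⁻¹ * (g * o * g⁻¹) by group]
  refine mul_mem (hcomap ?_) (Subgroup.mem_sup_right (hO.conj_mem o ho g))
  show F.proj (g * a * g⁻¹) ∈ F.Abar ⊔ O1
  rw [map_mul, map_mul, map_inv]
  exact hN.conj_mem _ (Subgroup.mem_sup_left (F.proj_mem_Abar.2 ha)) _

end Frame

end CfsgLib.J2SylShape96
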