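import Cfsg.Agent.J2SylShape96.NotFuse
import Cfsg.Agent.EightType55.Main

/-!
Modulo the central involution the group has three classes of involutions, and the extraspecial
subgroup is normal modulo the largest odd normal subgroup.
-/

set_option autoImplicit false
set_option linter.style.haveILetI false
set_option linter.unusedSectionVars false

universe u

namespace CfsgLib.J2SylShape96

open Cfsg
open CfsgLib.EightType55 (A5 fourV s1 s2 s3 t3 mem_fourV coreOf)

local instance : Fact (Nat.Prime 2) := ⟨Nat.prime_two⟩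

theorem two_transitive : ∀ i j a b : Fin 5, i ≠ j → a ≠ b → ∃ g : A5, g.1 i = a ∧ g.1 j = b := by
  decide +kernel

theorem t3_fourV : ∀ h : Fin 4, ∃ k : Fin 4, t3 * hperm h * t3⁻¹ = hperm k := by decide +kernel

theorem t3_cycle : ∀ a b : Fin 4, t3 * hperm (1 : Fin 4) * t3⁻¹ = hperm a →
    t3 * hperm a * t3⁻¹ = hperm b → (a = 2 ∧ b = 3) ∨ (a = 3 ∧ b = 2) := by decide +kernel

theorem fourV_comm : ∀ a b : Fin 4, hperm a * hperm b = hperm b * hperm a := by decide +kernel

namespace Frame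

variable {X : Type u} [Group X] [Finite X] (F : Frame X)

theorem exists_lab_eq (honto : Function.Surjective F.labA) (g : A5) :
    ∃ n, ∃ hn : n ∈ Subgroup.normalizer (F.Q : Set X), F.lab ⟨n, hn⟩ = g.1 := by
  obtain ⟨⟨n, hn⟩, h⟩ := honto g
  exact ⟨n, hn, congrArg Subtype.val h⟩

/-- An element normalizing the Sylow subgroup and cycling the three outside cosets. -/
theorem exists_cycle (honto : Function.Surjective F.labA) :
    ∃ m, ∃ hm : m ∈ Subgroup.normalizer (F.Q : Set X), ∃ a ∈ fourV,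
      F.labA ⟨m, hm⟩ = a * t3 ∧ ∀ x ∈ (F.S : Subgroup X), m * x * m⁻¹ ∈ (F.S : Subgroup X) := by
  obtain ⟨n, hn⟩ := honto t3
  set L : Subgroup X := (fourV.comap F.labA).map (Subgroup.normalizer (F.Q : Set X)).subtype
  have hSL : (F.S : Subgroup X) ≤ L := fun x hx => by
    obtain ⟨t, rfl⟩ := F.exists_of_mem hx
    refine ⟨⟨F.emb t, F.emb_mem_normalizer t⟩, ?_, rfl⟩
    show F.labA _ ∈ fourV
    rw [F.labA_emb]; exact hperm_mem _
  have hB : (F.S : Subgroup X).map (MulAut.conj (n : X)).toMonoidHom ≤ L := by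
    rintro _ ⟨x, hx, rfl⟩
    obtain ⟨t, rfl⟩ := F.exists_of_mem hx
    refine ⟨n * ⟨F.emb t, F.emb_mem_normalizer t⟩ * n⁻¹, ?_, rfl⟩
    show F.labA _ ∈ fourV
    rw [map_mul, map_mul, map_inv, hn, F.labA_emb]
    obtain ⟨k, hk⟩ := t3_fourV ⟨_, shift_lt t⟩
    rw [hk]; exact hperm_mem _
  obtain ⟨l, hl, hlb⟩ := (EightType55.isSyl_of_sylow F.S hSL).exists_conj hB (F.S.2.map _)
  obtain ⟨l', hl', rfl⟩ := hl
  refine ⟨l' * n, (l' * n).2, F.labA l', hl', ?_, fun x hx => ?_⟩
  · show F.labA (l' * n) = _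
    rw [map_mul, hn]
  · have := hlb _ ⟨x, hx, rfl⟩
    show (l' : X) * n * x * ((l' : X) * n)⁻¹ ∈ _
    rw [show (l' : X) * n * x * ((l' : X) * n)⁻¹ = l' * (n * x * (n : X)⁻¹) * (l' : X)⁻¹ by group]
    exact this

/-- The singular, nonsingular and outside representatives exhaust the involutions modulo the centre. -/
theorem three_types (honto : Function.Surjective F.labA) {s : Tm} (h2 : s * s = 1 ∨ s * s = zm)
    (h1 : s ≠ 1) (hz : s ≠ zm) :
    ∃ c : X, ∃ r ∈ ({ee, rr, x0} : Set Tm),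
      c * F.emb s * c⁻¹ = F.emb r ∨ c * F.emb s * c⁻¹ = F.emb r * F.Z := by
  have hcz : ∀ (c : X), c ∈ Subgroup.normalizer (F.Q : Set X) → c * F.Z * c⁻¹ = F.Z := fun c hc => by
    have := F.rho_spec ⟨c, hc⟩ qz
    rw [aut_qz] at this
    exact this.symm
  by_cases hQ : s ∈ Qm
  · rcases h2 with h2 | h2
    · obtain ⟨g, hg, -⟩ := two_transitive (labF s) (if labF s = 0 then 1 else 0) 4 0
        (by generalize labF s = i; revert i; decide) (by decide)
      obtain ⟨n, hn, hlab⟩ := F.exists_lab_eq honto g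
      refine ⟨n, ee, by simp, ?_⟩
      have hpt := F.conj_pt hn (labF s)
      rw [hlab, hg, pt_four] at hpt
      rcases sing_cases hQ h2 h1 hz with e | e
      · rw [e]; exact hpt
      · rw [e, map_mul, show F.emb zm = F.Z from rfl,
          show n * (F.emb (pt (labF s)) * F.Z) * n⁻¹ =
            n * F.emb (pt (labF s)) * n⁻¹ * (n * F.Z * n⁻¹) by group, hcz n hn]
        rcases hpt with e' | e' <;> rw [e']
        · exact Or.inr rfl
        · left; rw [mul_assoc, F.Z_mul_self, mul_one]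
    · obtain ⟨i, j, hij, hs⟩ := nonsing_cases hQ h2
      obtain ⟨a, b, hab, hr⟩ := nonsing_cases rr_mem_Qm const_facts.2.2.2.2.1
      obtain ⟨g, hga, hgb⟩ := two_transitive i j a b hij hab
      obtain ⟨n, hn, hlab⟩ := F.exists_lab_eq honto g
      refine ⟨n, rr, by simp, ?_⟩
      have hi := F.conj_pt hn i
      have hj := F.conj_pt hn j
      rw [hlab, hga] at hi
      rw [hlab, hgb] at hj
      have hZc : ∀ u : Tm, F.Z * F.emb u = F.emb u * F.Z := fun u => by
        rw [Z, ← map_mul, ← map_mul, zm_comm]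
      have key : ∀ e : X, (e = 1 ∨ e = F.Z) →
          F.emb (pt a) * F.emb (pt b) * e = F.emb rr ∨
            F.emb (pt a) * F.emb (pt b) * e = F.emb rr * F.Z := by
        intro e he
        rcases hr with hr | hr <;> rw [hr]
        · rcases he with rfl | rfl
          · left; rw [mul_one, map_mul]
          · right; rw [map_mul]
        · rcases he with rfl | rfl
          · right; rw [map_mul, map_mul, show F.emb zm = F.Z from rfl,
              mul_assoc _ F.Z F.Z, F.Z_mul_self]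
          · left; rw [map_mul, map_mul]; rfl
      have hpair : ∃ e : X, (e = 1 ∨ e = F.Z) ∧
          n * (F.emb (pt i) * F.emb (pt j)) * n⁻¹ = F.emb (pt a) * F.emb (pt b) * e := by
        rw [show n * (F.emb (pt i) * F.emb (pt j)) * n⁻¹ =
          n * F.emb (pt i) * n⁻¹ * (n * F.emb (pt j) * n⁻¹) by group]
        rcases hi with hi | hi <;> rcases hj with hj | hj <;> rw [hi, hj]
        · exact ⟨1, Or.inl rfl, (mul_one _).symm⟩
        · exact ⟨F.Z, Or.inr rfl, (mul_assoc _ _ _).symm⟩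
        · exact ⟨F.Z, Or.inr rfl, by rw [mul_assoc, hZc, ← mul_assoc]⟩
        · refine ⟨1, Or.inl rfl, ?_⟩
          rw [mul_one, mul_assoc, ← mul_assoc F.Z, hZc, mul_assoc (F.emb (pt b)), F.Z_mul_self,
            mul_one]
      obtain ⟨e, he, hpair⟩ := hpair
      rcases hs with hs | hs
      · rw [hs, map_mul, hpair]; exact key e he
      · rw [hs, map_mul, map_mul, show F.emb zm = F.Z from rfl,
          show n * (F.emb (pt i) * F.emb (pt j) * F.Z) * n⁻¹ =
            n * (F.emb (pt i) * F.emb (pt j)) * n⁻¹ * (n * F.Z * n⁻¹) by group, hcz n hn, hpair,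
          mul_assoc _ e F.Z]
        refine key _ ?_
        rcases he with rfl | rfl
        · exact Or.inr (one_mul _)
        · exact Or.inl F.Z_mul_self
  · -- outside
    have hbase : ∀ {t : Tm}, t ∉ Qm → (t * t = 1 ∨ t * t = zm) → ∀ {h : Fin 4}, (v t >>> 5) = h →
        ∃ d : X, d ∈ Subgroup.normalizer (F.Q : Set X) ∧
          (d * F.emb t * d⁻¹ = F.emb (el (32 * h)) ∨
            d * F.emb t * d⁻¹ = F.emb (el (32 * h)) * F.Z) := by
      intro t ht ht2 h hh
      obtain ⟨x, hx⟩ := (outside_facts ht ht2).2.1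
      refine ⟨F.emb x, F.emb_mem_normalizer x, hx.imp (fun e => ?_) (fun e => ?_)⟩
      · rw [← map_inv, ← map_mul, ← map_mul, e, hh]
      · rw [← map_inv, ← map_mul, ← map_mul, e, map_mul, hh]; rfl
    obtain ⟨m, hm, a, ha, hma, hmS⟩ := F.exists_cycle honto
    have hel : ∀ h : Fin 4, h ≠ 0 → el (32 * h) ∉ Qm ∧
        (el (32 * h) * el (32 * h) = 1 ∨ el (32 * h) * el (32 * h) = zm) ∧
        v (el (32 * h)) >>> 5 = h := by simp only [mem_Qm]; decide +kernel
    have step : ∀ h k : Fin 4, h ≠ 0 → t3 * hperm h * t3⁻¹ = hperm k →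
        ∃ d : X, d ∈ Subgroup.normalizer (F.Q : Set X) ∧
          (d * F.emb (el (32 * h)) * d⁻¹ = F.emb (el (32 * k)) ∨
            d * F.emb (el (32 * h)) * d⁻¹ = F.emb (el (32 * k)) * F.Z) := by
      intro h k hh hk
      obtain ⟨t, ht⟩ := F.exists_of_mem (hmS _ (F.emb_mem (el (32 * h))))
      have hlab : hperm (v t >>> 5) = hperm k := by
        obtain ⟨a', ha', rfl⟩ := fourV_exists ha
        have e : (⟨F.emb t, F.emb_mem_normalizer t⟩ : Subgroup.normalizer (F.Q : Set X)) =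
            ⟨m, hm⟩ * ⟨F.emb (el (32 * h)), F.emb_mem_normalizer _⟩ * (⟨m, hm⟩)⁻¹ := Subtype.ext ht
        have e2 := congrArg F.labA e
        rw [map_mul, map_mul, map_inv, F.labA_emb, F.labA_emb, hma, (hel h hh).2.2] at e2
        rw [e2, show hperm a' * t3 * hperm h * (hperm a' * t3)⁻¹ =
          hperm a' * (t3 * hperm h * t3⁻¹) * (hperm a')⁻¹ by group, hk,
          fourV_comm ⟨a', ha'⟩ k, mul_inv_cancel_right]
      have hk' : v t >>> 5 = k := congrArg Fin.val (hperm_inj ⟨_, shift_lt t⟩ k hlab)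
      have ht1 : t ∉ Qm := by
        rw [← hperm_eq_one_iff, hlab, ← hk]
        intro hone
        have h1' : hperm h = 1 := by
          rwa [conj_eq_one_iff] at hone
        exact hh (hperm_inj h 0 h1')
      have ht2 : t * t = 1 ∨ t * t = zm := by
        have hsq : F.emb (t * t) = m * F.emb (el (32 * h) * el (32 * h)) * m⁻¹ := by
          rw [map_mul, map_mul, ht]; group
        rcases (hel h hh).2.1 with e | e
        · left; exact F.emb_injective (by rw [hsq, e, map_one, mul_one, mul_inv_cancel])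
        · right; exact F.emb_injective (by rw [hsq, e]; exact hcz m hm)
      obtain ⟨d, hd, hd'⟩ := hbase ht1 ht2 hk'
      refine ⟨d * m, mul_mem hd hm, ?_⟩
      rw [show d * m * F.emb (el (32 * h)) * (d * m)⁻¹ =
        d * (m * F.emb (el (32 * h)) * m⁻¹) * d⁻¹ by group, ← ht]
      exact hd'
    -- every coset leads to the first
    have conn : ∀ {h k : Fin 4} {d : X}, d ∈ Subgroup.normalizer (F.Q : Set X) →
        (d * F.emb (el (32 * h)) * d⁻¹ = F.emb (el (32 * k)) ∨
          d * F.emb (el (32 * h)) * d⁻¹ = F.emb (el (32 * k)) * F.Z) →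
        ∀ {t : X} {c : X}, (c * t * c⁻¹ = F.emb (el (32 * k)) ∨
          c * t * c⁻¹ = F.emb (el (32 * k)) * F.Z) →
          d⁻¹ * c * t * (d⁻¹ * c)⁻¹ = F.emb (el (32 * h)) ∨
            d⁻¹ * c * t * (d⁻¹ * c)⁻¹ = F.emb (el (32 * h)) * F.Z := by
      intro h k d hd hdd t c hct
      have hZd : d⁻¹ * F.Z * d = F.Z := by simpa using hcz d⁻¹ (inv_mem hd)
      rw [show d⁻¹ * c * t * (d⁻¹ * c)⁻¹ = d⁻¹ * (c * t * c⁻¹) * d by group]
      rcases hct with e | e <;> rcases hdd with e' | e' <;> rw [e]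
      · left; rw [← e']; group
      · right
        have he : F.emb (el (32 * k)) = d * F.emb (el (32 * h)) * d⁻¹ * F.Z := by
          rw [e', mul_assoc, F.Z_mul_self, mul_one]
        rw [he, show d⁻¹ * (d * F.emb (el (32 * h)) * d⁻¹ * F.Z) * d =
            F.emb (el (32 * h)) * (d⁻¹ * F.Z * d) by group, hZd]
      · right
        rw [← e', show d⁻¹ * (d * F.emb (el (32 * h)) * d⁻¹ * F.Z) * d =
            F.emb (el (32 * h)) * (d⁻¹ * F.Z * d) by group, hZd]
      · left; rw [← e']; group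
    obtain ⟨a2, hk1⟩ := t3_fourV (1 : Fin 4)
    obtain ⟨a3, hk2⟩ := t3_fourV a2
    have hcyc := t3_cycle a2 a3 hk1 hk2
    obtain ⟨d1, hd1, hd1'⟩ := step 1 a2 (by decide) hk1
    obtain ⟨d2, hd2, hd2'⟩ := step a2 a3 (by rcases hcyc with h | h <;> simp [h.1]) hk2
    obtain ⟨c, -, hc⟩ := hbase hQ h2 (h := ⟨_, shift_lt s⟩) rfl
    suffices hex : ∃ e : X,
        e * F.emb s * e⁻¹ = F.emb (el (32 * ((1 : Fin 4) : ℕ))) ∨
          e * F.emb s * e⁻¹ = F.emb (el (32 * ((1 : Fin 4) : ℕ))) * F.Z by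
      obtain ⟨e, he⟩ := hex
      exact ⟨e, x0, by simp, he⟩
    have hne : (⟨_, shift_lt s⟩ : Fin 4) ≠ 0 := fun e =>
      hQ (mem_Qm_iff_shift.2 (congrArg Fin.val e))
    have hcases : ∀ k : Fin 4, k ≠ 0 → k = 1 ∨ k = a2 ∨ k = a3 := by
      rcases hcyc with h | h <;> (rw [h.1, h.2]; decide)
    rcases hcases _ hne with e | e | e <;> rw [e] at hc
    · exact ⟨c, hc⟩
    · exact ⟨_, conn hd1 hd1' hc⟩
    · exact ⟨_, conn hd1 hd1' (conn hd2 hd2' hc)⟩

end Frame

end CfsgLib.J2SylShape96
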