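import Cfsg.Agent.J2SylShape96.Four
import Cfsg.Agent.Constrained.Basic
import Cfsg.Agent.EightType55.Module

/-!
Finite groups with a Sylow 2-subgroup isomorphic to the model: the normalizer of the extraspecial
subgroup and its permutation action on five labels.
-/

set_option autoImplicit false
set_option linter.style.haveILetI false

universe u

namespace CfsgLib.J2SylShape96

open CfsgLib.EightType55 (A5 fourV s1 s2 s3 mem_fourV)

local instance : Fact (Nat.Prime 2) := ⟨Nat.prime_two⟩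

/-- A Sylow 2-subgroup with a coordinate map onto the model. -/
structure Frame (X : Type u) [Group X] where
  /-- the Sylow subgroup -/
  S : Sylow 2 X
  /-- the coordinates -/
  φ : ↥(S : Subgroup X) ≃* Tm

namespace Frame

variable {X : Type u} [Group X] (F : Frame X)

/-- the model inside the group -/
noncomputable def emb : Tm →* X := (F.S : Subgroup X).subtype.comp F.φ.symm.toMonoidHom

theorem emb_injective : Function.Injective F.emb :=
  Subtype.val_injective.comp F.φ.symm.injective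

theorem emb_mem (t : Tm) : F.emb t ∈ (F.S : Subgroup X) := (F.φ.symm t).2

theorem emb_phi {x : X} (hx : x ∈ (F.S : Subgroup X)) : F.emb (F.φ ⟨x, hx⟩) = x :=
  congrArg Subtype.val (F.φ.symm_apply_apply ⟨x, hx⟩)

theorem exists_of_mem {x : X} (hx : x ∈ (F.S : Subgroup X)) : ∃ t, F.emb t = x :=
  ⟨_, F.emb_phi hx⟩

theorem range_emb : F.emb.range = (F.S : Subgroup X) :=
  le_antisymm (by rintro _ ⟨t, rfl⟩; exact F.emb_mem t) fun _ hx => F.exists_of_mem hx

theorem emb_eq_one {t : Tm} : F.emb t = 1 ↔ t = 1 := map_eq_one_iff _ F.emb_injective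

/-- the extraspecial subgroup -/
noncomputable def Q : Subgroup X := Qm.map F.emb

/-- the central involution -/
noncomputable def Z : X := F.emb zm

theorem Q_le : F.Q ≤ (F.S : Subgroup X) := by
  rintro _ ⟨t, -, rfl⟩; exact F.emb_mem t

theorem Z_mem_Q : F.Z ∈ F.Q := ⟨zm, zm_mem_Qm, rfl⟩

theorem emb_mem_Q {t : Tm} : F.emb t ∈ F.Q ↔ t ∈ Qm :=
  ⟨fun ⟨u, hu, he⟩ => F.emb_injective he ▸ hu, fun h => ⟨t, h, rfl⟩⟩

theorem isPGroup_Q : IsPGroup 2 F.Q := F.S.2.to_le F.Q_le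

theorem card_Q : Nat.card F.Q = 32 := by
  rw [Q, Subgroup.card_map_of_injective F.emb_injective, card_Qm]

theorem Z_mul_self : F.Z * F.Z = 1 := by
  rw [Z, ← map_mul, const_facts.2.2.2.2.2.2.2.2.1, map_one]

theorem Z_ne_one : F.Z ≠ 1 := fun h => const_facts.2.2.2.2.2.2.2.2.2.1 (F.emb_eq_one.1 h)

theorem emb_mem_normalizer [Finite X] (t : Tm) :
    F.emb t ∈ Subgroup.normalizer (F.Q : Set X) := by
  refine Subgroup.mem_normalizer_fintype fun x hx => ?_
  obtain ⟨u, hu, rfl⟩ := hx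
  exact ⟨_, conj_mem_Qm t hu, by rw [map_mul, map_mul, map_inv]⟩

theorem S_le_normalizer [Finite X] : (F.S : Subgroup X) ≤ Subgroup.normalizer (F.Q : Set X) := by
  intro x hx
  obtain ⟨t, rfl⟩ := F.exists_of_mem hx
  exact F.emb_mem_normalizer t

/-- coordinates on the extraspecial subgroup -/
noncomputable def qEquiv : Qm ≃* F.Q := Qm.equivMapOfInjective F.emb F.emb_injective

theorem qEquiv_coe (x : Qm) : (F.qEquiv x : X) = F.emb x := rfl

/-- the normalizer acting on the model of the extraspecial subgroup -/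
noncomputable def rho : ↥(Subgroup.normalizer (F.Q : Set X)) →* MulAut Qm :=
  (MulAut.congr F.qEquiv.symm).toMonoidHom.comp (Subgroup.normalizerMonoidHom F.Q)

theorem rho_spec (n : ↥(Subgroup.normalizer (F.Q : Set X))) (x : Qm) :
    F.emb (F.rho n x) = n * F.emb x * (n : X)⁻¹ := by
  rw [← qEquiv_coe]
  show ((F.qEquiv (F.qEquiv.symm (Subgroup.normalizerMonoidHom F.Q n (F.qEquiv x))) : F.Q) : X) = _
  rw [MulEquiv.apply_symm_apply]
  rfl

theorem rho_ext {n : ↥(Subgroup.normalizer (F.Q : Set X))} {σ : MulAut Qm}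
    (h : ∀ x : Qm, (n : X) * F.emb x * (n : X)⁻¹ = F.emb (σ x)) : F.rho n = σ :=
  MulEquiv.ext fun x => Subtype.ext (F.emb_injective (by rw [F.rho_spec, h]))

/-- the action on labels -/
noncomputable def lab : ↥(Subgroup.normalizer (F.Q : Set X)) →* Equiv.Perm (Fin 5) :=
  labHom.comp F.rho

theorem lab_spec {n : X} (hn : n ∈ Subgroup.normalizer (F.Q : Set X)) (i : Fin 5) :
    ∃ u : Qm, n * F.emb (pt i) * n⁻¹ = F.emb u ∧
      F.lab ⟨n, hn⟩ i = labF u ∧ (u : Tm) * u = 1 ∧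
        (u = qpt (F.lab ⟨n, hn⟩ i) ∨ u = qpt (F.lab ⟨n, hn⟩ i) * qz) := by
  refine ⟨F.rho ⟨n, hn⟩ (qpt i), (F.rho_spec ⟨n, hn⟩ (qpt i)).symm, rfl, ?_, aut_qpt _ i⟩
  rw [← Subgroup.coe_mul, ← map_mul, show qpt i * qpt i = 1 from Subtype.ext (pt_facts i).1,
    map_one]
  rfl

theorem conj_pt {n : X} (hn : n ∈ Subgroup.normalizer (F.Q : Set X)) (i : Fin 5) :
    n * F.emb (pt i) * n⁻¹ = F.emb (pt (F.lab ⟨n, hn⟩ i)) ∨
      n * F.emb (pt i) * n⁻¹ = F.emb (pt (F.lab ⟨n, hn⟩ i)) * F.Z := by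
  obtain ⟨u, hu, -, -, h⟩ := F.lab_spec hn i
  rcases h with h | h
  · left; rw [hu, h]; rfl
  · right; rw [hu, h, Z, ← map_mul]; rfl

variable [Finite X]

theorem lab_emb (t : Tm) :
    F.lab ⟨F.emb t, F.emb_mem_normalizer t⟩ = (hperm (v t >>> 5)).1 := by
  refine Equiv.ext fun i => ?_
  obtain ⟨u, hu, hl, -⟩ := F.lab_spec (F.emb_mem_normalizer t) i
  rw [hl, ← lab_conj t i]
  congr 1
  refine F.emb_injective ?_
  rw [← hu, map_mul, map_mul, map_inv]

theorem exists_emb_lab {g : A5} (hg : g ∈ fourV) :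
    ∃ t, F.lab ⟨F.emb t, F.emb_mem_normalizer t⟩ = g.1 := by
  obtain ⟨h, h4, rfl⟩ := fourV_exists hg
  refine ⟨el (32 * h), ?_⟩
  rw [F.lab_emb, v_el (by omega), Nat.shiftRight_eq_div_pow]
  congr 2
  omega

theorem lab_even (n : ↥(Subgroup.normalizer (F.Q : Set X))) :
    F.lab n ∈ alternatingGroup (Fin 5) := by
  set f : ↥(Subgroup.normalizer (F.Q : Set X)) →* ℤˣ := Equiv.Perm.sign.comp F.lab
  have hker : (F.S : Subgroup X).subgroupOf (Subgroup.normalizer (F.Q : Set X)) ≤ f.ker := by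
    intro x hx
    obtain ⟨t, ht⟩ := F.exists_of_mem (Subgroup.mem_subgroupOf.1 hx)
    have e : x = ⟨F.emb t, F.emb_mem_normalizer t⟩ := Subtype.ext ht.symm
    rw [MonoidHom.mem_ker, e]
    show Equiv.Perm.sign (F.lab _) = 1
    rw [F.lab_emb]
    exact Equiv.Perm.mem_alternatingGroup.1 (hperm _).2
  have h1 : ¬ 2 ∣ f.ker.index := fun hd => F.S.not_dvd_index
    ((hd.trans (Subgroup.index_dvd_of_le hker)).trans
      (Subgroup.relIndex_dvd_index_of_le F.S_le_normalizer))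
  have h2 : f.ker.index ∣ 2 := by
    rw [Subgroup.index_ker]
    refine (Subgroup.card_subgroup_dvd_card f.range).trans ?_
    rw [Nat.card_eq_fintype_card, Fintype.card_units_int]
  rcases (Nat.dvd_prime Nat.prime_two).1 h2 with h | h
  · refine Equiv.Perm.mem_alternatingGroup.2 (MonoidHom.mem_ker.1 (?_ : n ∈ f.ker))
    rw [Subgroup.index_eq_one.1 h]
    exact Subgroup.mem_top n
  · exact absurd h.symm.dvd h1

/-- the action on labels, with values in the alternating group -/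
noncomputable def labA : ↥(Subgroup.normalizer (F.Q : Set X)) →* A5 :=
  F.lab.codRestrict (alternatingGroup (Fin 5)) F.lab_even

theorem labA_coe (n : ↥(Subgroup.normalizer (F.Q : Set X))) : (F.labA n).1 = F.lab n := rfl

theorem labA_emb (t : Tm) :
    F.labA ⟨F.emb t, F.emb_mem_normalizer t⟩ = hperm (v t >>> 5) := Subtype.ext (F.lab_emb t)

theorem exists_emb_labA {g : A5} (hg : g ∈ fourV) :
    ∃ t, F.labA ⟨F.emb t, F.emb_mem_normalizer t⟩ = g := by
  obtain ⟨t, ht⟩ := F.exists_emb_lab hg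
  exact ⟨t, Subtype.ext ht⟩

theorem fourV_conj_move : ∀ g a : A5, g.1 4 ≠ 4 → (a = s1 ∨ a = s2 ∨ a = s3) →
    ¬ (g⁻¹ * a * g = s1 ∨ g⁻¹ * a * g = s2 ∨ g⁻¹ * a * g = s3 ∨ g⁻¹ * a * g = 1) := by
  decide +kernel

theorem labA_surjective (h : ∃ n, F.lab n 4 ≠ 4) : Function.Surjective F.labA := by
  obtain ⟨n, hn⟩ := h
  have hV : fourV ≤ F.labA.range := fun g hg => by
    obtain ⟨t, ht⟩ := F.exists_emb_labA hg
    exact ⟨_, ht⟩
  set g := F.labA n
  have hinj : Function.Injective fun p : fourV × fourV =>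
      (⟨p.1.1 * g * p.2.1, mul_mem (mul_mem (hV p.1.2) ⟨n, rfl⟩) (hV p.2.2)⟩ : F.labA.range) := by
    rintro ⟨a, b⟩ ⟨a', b'⟩ e
    have e' : a.1 * g * b.1 = a'.1 * g * b'.1 := congrArg Subtype.val e
    have hd : g⁻¹ * (a'.1⁻¹ * a.1) * g = b'.1 * b.1⁻¹ := by
      calc g⁻¹ * (a'.1⁻¹ * a.1) * g = g⁻¹ * a'.1⁻¹ * (a.1 * g * b.1) * b.1⁻¹ := by group
        _ = g⁻¹ * a'.1⁻¹ * (a'.1 * g * b'.1) * b.1⁻¹ := by rw [e']
        _ = b'.1 * b.1⁻¹ := by group
    have hmem : g⁻¹ * (a'.1⁻¹ * a.1) * g ∈ fourV := hd ▸ mul_mem b'.2 (inv_mem b.2)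
    have h1 : a'.1⁻¹ * a.1 = 1 := by
      rcases mem_fourV.1 (mul_mem (inv_mem a'.2) a.2) with h | h
      · exact h
      · exfalso
        refine fourV_conj_move g _ hn h ?_
        rcases mem_fourV.1 hmem with h' | h' | h' | h'
        exacts [Or.inr (Or.inr (Or.inr h')), Or.inl h', Or.inr (Or.inl h'), Or.inr (Or.inr (Or.inl h'))]
    have ha : a = a' := Subtype.ext (inv_mul_eq_one.1 h1).symm
    subst ha
    exact Prod.ext rfl (Subtype.ext (mul_left_cancel e'))
  have h16 := Nat.card_le_card_of_injective _ hinj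
  rw [Nat.card_prod, EightType55.card_fourV] at h16
  have hidx := F.labA.range.index_mul_card
  rw [EightType55.card_A5] at hidx
  rw [← MonoidHom.range_eq_top]
  refine EightType55.eq_top_of_index_lt ?_
  by_contra hlt
  have := Nat.mul_le_mul (not_lt.1 hlt) h16
  omega

/-- an element with trivial action on labels is a product with a centralizing element -/
theorem exists_cent_of_lab {n : X} (hn : n ∈ Subgroup.normalizer (F.Q : Set X))
    (h : F.lab ⟨n, hn⟩ = 1) :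
    ∃ c ∈ F.Q, c⁻¹ * n ∈ Subgroup.centralizer (F.Q : Set X) := by
  obtain ⟨c, hc⟩ := exists_conj_of_labHom h
  refine ⟨F.emb c, F.emb_mem_Q.2 c.2, Subgroup.mem_centralizer_iff.2 ?_⟩
  rintro _ ⟨x, hx, rfl⟩
  have hspec : n * F.emb x * n⁻¹ = F.emb c * F.emb x * (F.emb c)⁻¹ := by
    rw [← F.rho_spec ⟨n, hn⟩ ⟨x, hx⟩, hc, Subgroup.coe_mul, Subgroup.coe_mul, map_mul, map_mul,
      InvMemClass.coe_inv, map_inv]
  calc F.emb x * ((F.emb c)⁻¹ * n) = (F.emb c)⁻¹ * (F.emb c * F.emb x * (F.emb c)⁻¹) * n := by group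
    _ = (F.emb c)⁻¹ * (n * F.emb x * n⁻¹) * n := by rw [hspec]
    _ = (F.emb c)⁻¹ * n * F.emb x := by group

theorem rho_eq_one {n : X} (hn : n ∈ Subgroup.normalizer (F.Q : Set X))
    (hc : n ∈ Subgroup.centralizer (F.Q : Set X)) : F.rho ⟨n, hn⟩ = 1 :=
  F.rho_ext fun x => by
    show n * F.emb x * n⁻¹ = F.emb x
    rw [← Subgroup.mem_centralizer_iff.1 hc (F.emb x) (F.emb_mem_Q.2 x.2), mul_inv_cancel_right]

theorem centralizer_inter_S {x : X} (hx : x ∈ (F.S : Subgroup X))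
    (hc : x ∈ Subgroup.centralizer (F.Q : Set X)) : x = 1 ∨ x = F.Z := by
  obtain ⟨t, rfl⟩ := F.exists_of_mem hx
  refine (centralizer_low (t := t) fun s hs => F.emb_injective ?_).imp (fun h => ?_) (fun h => ?_)
  · rw [map_mul, map_mul]
    exact (Subgroup.mem_centralizer_iff.1 hc _ (F.emb_mem_Q.2 hs)).symm
  · rw [h, map_one]
  · rw [h]; rfl

end Frame

end CfsgLib.J2SylShape96
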