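import Cfsg.Agent.J2SylShape96.Uniq
import Cfsg.Agent.EightType55.Abelian
import Cfsg.Agent.SelfCentPrime.PrimeCore
import Mathlib.GroupTheory.Transfer

/-!
A group with a central involution and Sylow 2-subgroup of model type, in which the two singular
representatives are fused: the normalizer of the extraspecial subgroup induces the alternating group
on the five labels.
-/

set_option autoImplicit false
set_option linter.style.haveILetI false

universe u

namespace CfsgLib.J2SylShape96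

open Cfsg
open CfsgLib.EightType55 (IsSyl coreOf)

local instance : Fact (Nat.Prime 2) := ⟨Nat.prime_two⟩

/-- A central involution in a group of order twice an odd number has an odd complement. -/
theorem mem_core_or {H : Type u} [Group H] [Finite H] (z : H) (hz : orderOf z = 2)
    (hc : ∀ h, h * z = z * h) (h4 : ¬ 4 ∣ Nat.card H) (h : H) :
    h ∈ pPrimeCore 2 H ∨ h * z ∈ pPrimeCore 2 H := by
  have hp : IsPGroup 2 ↥(Subgroup.zpowers z) :=
    IsPGroup.of_card (n := 1) (by rw [Nat.card_zpowers, hz, pow_one])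
  obtain ⟨P, hP⟩ := hp.exists_le_sylow
  have hP2 : Nat.card (P : Subgroup H) = 2 := by
    obtain ⟨k, hk⟩ := IsPGroup.iff_card.1 P.2
    have h2 : 2 ∣ Nat.card (P : Subgroup H) := by
      have := Subgroup.card_dvd_of_le hP
      rwa [Nat.card_zpowers, hz] at this
    rcases k with _ | _ | k
    · simp [hk] at h2
    · simpa using hk
    · refine absurd ?_ h4
      refine Dvd.dvd.trans ?_ (Subgroup.card_subgroup_dvd_card (P : Subgroup H))
      rw [hk]
      exact ⟨2 ^ k, by ring⟩
  have hPz : (P : Subgroup H) = Subgroup.zpowers z :=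
    (Subgroup.eq_of_le_of_card_ge hP (by rw [hP2, Nat.card_zpowers, hz])).symm
  have hcen : (Subgroup.normalizer ((P : Subgroup H) : Set H)) ≤
      Subgroup.centralizer ((P : Subgroup H) : Set H) := fun n _ => by
    refine Subgroup.mem_centralizer_iff.2 fun p hp' => ?_
    rw [hPz, SetLike.mem_coe, Subgroup.mem_zpowers_iff] at hp'
    obtain ⟨i, rfl⟩ := hp'
    exact ((show Commute n z from hc n).zpow_right i).eq.symm
  set M := (MonoidHom.transferSylow P hcen).ker
  have hidx : M.index = 2 := by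
    rw [(MonoidHom.ker_transferSylow_isComplement' P hcen).symm.index_eq_card, hP2]
  have hzM : z ∉ M := fun hzM => by
    have hdvd : 2 ∣ Nat.card M := by
      rw [← hz, ← Subgroup.orderOf_mk z hzM]
      exact orderOf_dvd_natCard _
    exact MonoidHom.not_dvd_card_ker_transferSylow P hcen hdvd
  have hle : M ≤ pPrimeCore 2 H :=
    Constrained.le_pPrimeCore_of_not_dvd (MonoidHom.normal_ker _)
      (MonoidHom.not_dvd_card_ker_transferSylow P hcen)
  by_cases hh : h ∈ M
  · exact Or.inl (hle hh)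
  · refine Or.inr (hle ?_)
    rw [Subgroup.mul_mem_iff_of_index_two hidx]
    exact iff_of_false hh hzM

namespace Frame

variable {X : Type u} [Group X] (F : Frame X)

/-- the two singular representatives, in the group -/
noncomputable def E : X := F.emb ee

theorem E_facts : F.E * F.E = 1 ∧ F.E ∈ F.Q ∧ F.E ≠ 1 ∧ F.E ≠ F.Z := by
  refine ⟨?_, F.emb_mem_Q.2 ee_mem_Qm, fun h => ?_, fun h => ?_⟩
  · rw [E, ← map_mul, const_facts.2.2.2.2.2.2.2.1, map_one]
  · exact const_facts.2.2.2.2.2.2.2.2.2.2.1 (F.emb_eq_one.1 h)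
  · exact const_facts.2.2.2.2.2.2.2.2.2.2.2.1 (F.emb_injective h)

variable [Finite X]

/-- the setwise stabiliser of `{E, E * Z}` -/
theorem mem_pair_normalizer (hz : ∀ x, x * F.Z = F.Z * x) {c : X}
    (hc : c * F.E * c⁻¹ = F.E ∨ c * F.E * c⁻¹ = F.E * F.Z) :
    c ∈ Subgroup.normalizer ({F.E, F.E * F.Z} : Set X) := by
  have key : c * (F.E * F.Z) * c⁻¹ = c * F.E * c⁻¹ * F.Z := by
    rw [← mul_assoc c, mul_assoc (c * F.E), ← hz c⁻¹, ← mul_assoc]
  refine Subgroup.mem_normalizer_fintype fun n hn => ?_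
  simp only [Set.mem_insert_iff, Set.mem_singleton_iff] at hn ⊢
  rcases hn with rfl | rfl
  · exact hc
  · rw [key]
    rcases hc with e | e <;> rw [e]
    · exact Or.inr rfl
    · left; rw [mul_assoc, F.Z_mul_self, mul_one]

theorem conj_E_of_mem {c : X} (hc : c ∈ Subgroup.normalizer ({F.E, F.E * F.Z} : Set X)) :
    c * F.E * c⁻¹ = F.E ∨ c * F.E * c⁻¹ = F.E * F.Z := by
  have h : F.E ∈ ({F.E, F.E * F.Z} : Set X) := Set.mem_insert _ _
  have := (hc F.E).1 h
  simpa using this

theorem S_le_pair (hz : ∀ x, x * F.Z = F.Z * x) :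
    (F.S : Subgroup X) ≤ Subgroup.normalizer ({F.E, F.E * F.Z} : Set X) := by
  intro x hx
  obtain ⟨t, rfl⟩ := F.exists_of_mem hx
  refine F.mem_pair_normalizer hz ((conj_ee t).imp (fun e => ?_) (fun e => ?_))
  · rw [E, ← map_inv, ← map_mul, ← map_mul, e]
  · rw [E, Z, ← map_inv, ← map_mul, ← map_mul, e, map_mul]

/-- Fusion of the two representatives gives an element of the normalizer moving the last label. -/
theorem exists_move (hz : ∀ x, x * F.Z = F.Z * x) {g : X}
    (hg : g * F.emb qq * g⁻¹ = F.E) : ∃ n, F.lab n 4 ≠ 4 := by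
  set B : Subgroup X := F.Q.map (MulAut.conj g).toMonoidHom
  have hB : B ≤ Subgroup.normalizer ({F.E, F.E * F.Z} : Set X) := by
    rintro _ ⟨_, ⟨a, ha, rfl⟩, rfl⟩
    refine F.mem_pair_normalizer hz ?_
    show g * F.emb a * g⁻¹ * F.E * (g * F.emb a * g⁻¹)⁻¹ = _ ∨
      g * F.emb a * g⁻¹ * F.E * (g * F.emb a * g⁻¹)⁻¹ = _
    rw [← hg, show g * F.emb a * g⁻¹ * (g * F.emb qq * g⁻¹) * (g * F.emb a * g⁻¹)⁻¹ =
      g * (F.emb a * F.emb qq * (F.emb a)⁻¹) * g⁻¹ by group]
    refine (conj_Qm ha qq_mem_Qm).imp (fun e => ?_) (fun e => ?_)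
    · rw [← map_inv, ← map_mul, ← map_mul, e]
    · rw [← map_inv, ← map_mul, ← map_mul, e, map_mul, ← mul_assoc g,
        show F.emb zm = F.Z from rfl, mul_assoc (g * F.emb qq), ← hz g⁻¹, ← mul_assoc]
  obtain ⟨l, hl, hlb⟩ := (EightType55.isSyl_of_sylow F.S (F.S_le_pair hz)).exists_conj hB
    (F.isPGroup_Q.map _)
  set n := l * g
  have hnS : ∀ a : Qm, n * F.emb a * n⁻¹ ∈ (F.S : Subgroup X) := fun a => by
    have := hlb (g * F.emb a * g⁻¹) ⟨F.emb a, F.emb_mem_Q.2 a.2, rfl⟩
    rwa [show l * (g * F.emb a * g⁻¹) * l⁻¹ = n * F.emb a * n⁻¹ by simp only [n]; group] at this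
  set f : Qm →* Tm := F.φ.toMonoidHom.comp
    (((MulAut.conj n).toMonoidHom.comp (F.emb.comp Qm.subtype)).codRestrict (F.S : Subgroup X) hnS)
  have hf : ∀ a : Qm, F.emb (f a) = n * F.emb a * n⁻¹ := fun a => F.emb_phi (hnS a)
  have hfinj : Function.Injective f := fun a b e => by
    have := congrArg F.emb e
    rw [hf, hf, mul_left_inj, mul_right_inj] at this
    exact Subtype.ext (F.emb_injective this)
  have hfz : f qz = zm := F.emb_injective (by
    rw [hf]
    show n * F.Z * n⁻¹ = F.Z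
    rw [hz, mul_inv_cancel_right])
  have hM : f.range = Qm := by
    refine Qm_unique ?_ ?_ ?_
    · rw [← Nat.card_congr (MonoidHom.ofInjective hfinj).toEquiv, card_Qm]
    · rintro _ ⟨a, rfl⟩
      rw [← map_mul]
      rcases sq_Qm a.2 with e | e
      · left; rw [show a * a = 1 from Subtype.ext e, map_one]
      · right; rw [show a * a = qz from Subtype.ext e, hfz]
    · rintro _ ⟨a, rfl⟩ _ ⟨b, rfl⟩
      rw [← map_inv, ← map_mul, ← map_mul]
      rcases conj_Qm a.2 b.2 with e | e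
      · left; rw [show a * b * a⁻¹ = b from Subtype.ext e]
      · right; rw [show a * b * a⁻¹ = b * qz from Subtype.ext e, map_mul, hfz]
  have hn : n ∈ Subgroup.normalizer (F.Q : Set X) := by
    refine Subgroup.mem_normalizer_fintype ?_
    rintro _ ⟨a, ha, rfl⟩
    refine ⟨f ⟨a, ha⟩, ?_, hf ⟨a, ha⟩⟩
    exact (SetLike.ext_iff.1 hM _).1 ⟨_, rfl⟩
  refine ⟨⟨n, hn⟩, ?_⟩
  have h2 : F.lab ⟨n, hn⟩ 2 = 4 := by
    obtain ⟨u, hu, hlab, -⟩ := F.lab_spec hn 2
    rw [hlab]
    rw [pt_two, show n * F.emb qq * n⁻¹ = l * (g * F.emb qq * g⁻¹) * l⁻¹ by simp only [n]; group,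
      hg] at hu
    rcases F.conj_E_of_mem hl with e | e
    · rw [F.emb_injective (hu.symm.trans e), ← pt_four, labF_pt]
    · rw [F.emb_injective (hu.symm.trans (e.trans (map_mul F.emb ee zm).symm)),
        labF_mul_zm ee_mem_Qm, ← pt_four, labF_pt]
  intro h4
  exact absurd ((F.lab ⟨n, hn⟩).injective (h2.trans h4.symm)) (by decide)

theorem centralizer_le_normalizer :
    Subgroup.centralizer (F.Q : Set X) ≤ Subgroup.normalizer (F.Q : Set X) := fun c hc =>
  Subgroup.mem_normalizer_fintype fun x hx => by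
    rw [← Subgroup.mem_centralizer_iff.1 hc x hx, mul_inv_cancel_right]
    exact hx

/-- The centralizer of the extraspecial subgroup is its centre times an odd group. -/
theorem centralizer_decomp (hz : ∀ x, x * F.Z = F.Z * x) {c : X}
    (hc : c ∈ Subgroup.centralizer (F.Q : Set X)) :
    c ∈ coreOf (Subgroup.normalizer (F.Q : Set X)) ∨
      c * F.Z ∈ coreOf (Subgroup.normalizer (F.Q : Set X)) := by
  set H := Subgroup.centralizer (F.Q : Set X)
  have hZH : F.Z ∈ H := Subgroup.mem_centralizer_iff.2 fun x _ => hz x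
  have h4 : ¬ 4 ∣ Nat.card H := fun h4 => by
    obtain ⟨K, hK⟩ := Sylow.exists_subgroup_card_pow_prime 2 (n := 2) (G := H) (by simpa using h4)
    have hKN : K.map H.subtype ≤ Subgroup.normalizer (F.Q : Set X) :=
      (Subgroup.map_subtype_le _).trans F.centralizer_le_normalizer
    obtain ⟨l, hl, hlb⟩ := (EightType55.isSyl_of_sylow F.S F.S_le_normalizer).exists_conj hKN
      ((IsPGroup.of_card hK).map _)
    have hmem : ∀ k : K, l * ((k : H) : X) * l⁻¹ = 1 ∨ l * ((k : H) : X) * l⁻¹ = F.Z := fun k => by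
      refine F.centralizer_inter_S (hlb _ ⟨k, k.2, rfl⟩) (Subgroup.mem_centralizer_iff.2 ?_)
      intro x hx
      have hx' : l⁻¹ * x * l ∈ F.Q := (Subgroup.mem_normalizer_iff''.1 hl x).1 hx
      calc x * (l * ((k : H) : X) * l⁻¹) = l * (l⁻¹ * x * l * ((k : H) : X)) * l⁻¹ := by group
        _ = l * (((k : H) : X) * (l⁻¹ * x * l)) * l⁻¹ := by
          rw [Subgroup.mem_centralizer_iff.1 (k : H).2 _ hx']
        _ = l * ((k : H) : X) * l⁻¹ * x := by group
    have hinj : Function.Injective fun k : K =>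
        (⟨l * ((k : H) : X) * l⁻¹, hmem k⟩ : {x : X // x = 1 ∨ x = F.Z}) := fun a b e => by
      have e' := congrArg Subtype.val e
      simp only [mul_left_inj, mul_right_inj] at e'
      exact Subtype.ext (Subtype.ext e')
    have hle := Nat.card_le_card_of_injective _ hinj
    rw [hK] at hle
    classical
    have h2 : Nat.card {x : X // x = 1 ∨ x = F.Z} ≤ 2 := by
      have e : {x : X | x = 1 ∨ x = F.Z} = {1, F.Z} := by ext x; simp
      rw [show {x : X // x = 1 ∨ x = F.Z} = ↥({1, F.Z} : Set X) by rw [← e]; rfl,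
        Nat.card_coe_set_eq]
      exact (Set.ncard_insert_le _ _).trans (by simp)
    omega
  have hord : orderOf (⟨F.Z, hZH⟩ : H) = 2 := by
    rw [Subgroup.orderOf_mk]
    exact orderOf_eq_prime (by rw [sq, F.Z_mul_self]) F.Z_ne_one
  haveI hchar : (pPrimeCore 2 H).Characteristic := SelfCentPrime.pPrimeCore_characteristic 2
  have hcore : coreOf H ≤ coreOf (Subgroup.normalizer (F.Q : Set X)) := by
    refine EightType55.le_coreOf ((EightType55.coreOf_le H).trans F.centralizer_le_normalizer)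
      (fun n hn r hr => ?_) (EightType55.odd_coreOf H)
    obtain ⟨r', hr', rfl⟩ := hr
    have hconj : ∀ x ∈ H, n * x * n⁻¹ ∈ H := fun x hx => Subgroup.mem_centralizer_iff.2 fun y hy => by
      have hy' : n⁻¹ * y * n ∈ F.Q := (Subgroup.mem_normalizer_iff''.1 hn y).1 hy
      calc y * (n * x * n⁻¹) = n * (n⁻¹ * y * n * x) * n⁻¹ := by group
        _ = n * (x * (n⁻¹ * y * n)) * n⁻¹ := by rw [Subgroup.mem_centralizer_iff.1 hx _ hy']
        _ = n * x * n⁻¹ * y := by group
    have hconj' : ∀ x ∈ H, n⁻¹ * x * n ∈ H := fun x hx => Subgroup.mem_centralizer_iff.2 fun y hy => by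
      have hy' : n * y * n⁻¹ ∈ F.Q := (Subgroup.mem_normalizer_iff.1 hn y).1 hy
      calc y * (n⁻¹ * x * n) = n⁻¹ * (n * y * n⁻¹ * x) * n := by group
        _ = n⁻¹ * (x * (n * y * n⁻¹)) * n := by rw [Subgroup.mem_centralizer_iff.1 hx _ hy']
        _ = n⁻¹ * x * n * y := by group
    let σ : H ≃* H :=
      { toFun := fun x => ⟨n * x * n⁻¹, hconj _ x.2⟩
        invFun := fun x => ⟨n⁻¹ * x * n, hconj' _ x.2⟩
        left_inv := fun x => Subtype.ext (show n⁻¹ * (n * x * n⁻¹) * n = x by group)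
        right_inv := fun x => Subtype.ext (show n * (n⁻¹ * x * n) * n⁻¹ = x by group)
        map_mul' := fun a b => Subtype.ext (show n * (a * b : X) * n⁻¹ = n * a * n⁻¹ * (n * b * n⁻¹) by group) }
    exact ⟨σ r', Subgroup.characteristic_iff_map_le.1 hchar σ ⟨r', hr', rfl⟩, rfl⟩
  exact (mem_core_or (⟨F.Z, hZH⟩ : H) hord (fun h => Subtype.ext (hz h)) h4 ⟨c, hc⟩).imp
    (fun h => hcore ⟨_, h, rfl⟩) (fun h => hcore ⟨_, h, rfl⟩)

end Frame

end CfsgLib.J2SylShape96
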