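import Cfsg.Agent.J2SylShape96.Uniq
import Cfsg.Agent.SporJ2.Fusion
import Cfsg.Agent.SporJ2.Iso

/-!
The centralizer of a 2-central involution of the group of degree 100 carries a rigid frame.
-/

set_option autoImplicit false
set_option maxRecDepth 100000

namespace CfsgLib.J2SylShape96.J2Side

open CfsgLib.CosetEnum CfsgLib.SporJ2 CfsgLib.SporJ2.Fusion
open CfsgLib.SporJ2.Hundred (D ok grp)

local instance : Fact (Nat.Prime 2) := ⟨Nat.prime_two⟩

/-- the images of the positions -/
def pm : List ℕ := [0, 9, 32, 67, 41, 74, 61, 102, 73, 99, 52, 127, 64, 106, 29, 123, 125, 70, 105, 26, 104, 37, 20, 98, 116, 95, 96, 19, 113, 60, 4, 94, 91, 93, 43, 76, 5, 47, 3, 58, 72, 62, 40, 13, 87, 66, 84, 50, 85, 28, 54, 10, 51, 81, 55, 49, 36, 71, 68, 126, 65, 24, 14, 38, 11, 108, 31, 12, 34, 15, 35, 80, 39, 124, 82, 27, 30, 8, 110, 45, 78, 77, 119, 88, 1, 7, 63, 18, 117, 6, 21, 59, 22, 42, 89, 46, 101, 75, 2, 23, 17, 103, 57, 114, 100, 56, 97, 112, 44, 79, 92, 90, 48, 107, 109,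 33, 120, 121, 53, 86, 69, 83, 25, 111, 122, 16, 118, 115]

/-- the map is a homomorphism, is injective and carries the core to the extraspecial subgroup -/
def pmOK : Bool :=
  forBelow (fun j => decide (pm.getD j 0 < 128) &&
    forBelow (fun k => tmul (pm.getD j 0) (pm.getD ((mulTable.getD 0 []).getD k 0) 0) ==
      pm.getD ((mulTable.getD j []).getD k 0) 0) 3 &&
    (rList.contains j == decide (pm.getD j 0 < 32)) &&
    forBelow (fun i => !(pm.getD i 0 == pm.getD j 0)) j) 128 &&
  (pm.getD 0 1 == 0) && (pm.getD zIdx 0 == 16)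

theorem pm_ok : pmOK = true := by decide +kernel

theorem pm_spec :
    (∀ j < 128, pm.getD j 0 < 128) ∧
    (∀ j < 128, ∀ k < 3, tmul (pm.getD j 0) (pm.getD ((mulTable.getD 0 []).getD k 0) 0) =
      pm.getD ((mulTable.getD j []).getD k 0) 0) ∧
    (∀ j < 128, j ∈ rList ↔ pm.getD j 0 < 32) ∧
    (∀ i < 128, ∀ j < 128, pm.getD i 0 = pm.getD j 0 → i = j) ∧
    pm.getD 0 0 = 0 ∧ pm.getD zIdx 0 = 16 := by
  have h := pm_ok
  simp only [pmOK, Bool.and_eq_true, forBelow_iff, beq_iff_eq, decide_eq_true_eq,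
    Bool.not_eq_true', beq_eq_false_iff_ne, ne_eq] at h
  refine ⟨fun j hj => (h.1.1 j hj).1.1.1, fun j hj => (h.1.1 j hj).1.1.2, fun j hj => ?_, ?_, ?_,
    h.2⟩
  · have h3 := (h.1.1 j hj).1.2
    rw [← decide_eq_true_iff (p := pm.getD j 0 < 32), ← h3]
    simp
  · intro i hi j hj e
    rcases Nat.lt_trichotomy i j with hlt | heq | hgt
    · exact absurd e ((h.1.1 j hj).2 i hlt)
    · exact heq
    · exact absurd e.symm ((h.1.1 i hi).2 j hgt)
  · decide +kernel

theorem mulTable_spec {a : Equiv.Perm (Fin D.n)} {j k : ℕ} (hj : j < 128) (hk : k < 3)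
    (ha : Rep (Fusion.el j) a) :
    (mulTable.getD j []).getD k 0 < 128 ∧ Rep (Fusion.el ((mulTable.getD j []).getD k 0)) (a * gen' k) := by
  have h := (Model.allBelow_iff _ _).1 ((Model.allBelow_iff _ _).1 Fusion.table_ok j hj) k hk
  simp only [Bool.and_eq_true, Nat.blt, Nat.ble_eq] at h
  exact ⟨h.1, ha.mul (gen'_spec hk).2 (compOK_iff.1 h.2)⟩

theorem rep_zero : Rep (Fusion.el 0) (1 : Equiv.Perm (Fin D.n)) := by
  have h0 := elems_ok
  simp only [elemsOK, Bool.and_eq_true, Model.allBelow_iff, beq_iff_eq] at h0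
  exact fun i => (h0.1 i i.2).symm

/-- the position of an element -/
noncomputable def pos (a : syl) : ℕ := (mem_syl_iff.1 a.2).choose

theorem pos_spec (a : syl) : pos a < 128 ∧ Rep (Fusion.el (pos a)) (a : Equiv.Perm (Fin D.n)) :=
  (mem_syl_iff.1 a.2).choose_spec

theorem pos_eq {a : syl} {j : ℕ} (hj : j < 128) (h : Rep (Fusion.el j) (a : Equiv.Perm (Fin D.n))) :
    pos a = j := el_inj (pos_spec a).1 hj (pos_spec a).2 h

/-- the coordinates of an element -/
noncomputable def coord (a : syl) : Tm := J2SylShape96.el (pm.getD (pos a) 0)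

theorem v_coord (a : syl) : v (coord a) = pm.getD (pos a) 0 :=
  v_el (pm_spec.1 _ (pos_spec a).1)

theorem coord_one : coord 1 = 1 := v_inj (by
  rw [v_coord, pos_eq (j := 0) (by norm_num) rep_zero, pm_spec.2.2.2.2.1, v_one])

theorem coord_mul_gen (a : syl) {k : ℕ} (hk : k < 3) (hg : gen' k ∈ syl) :
    coord (a * ⟨gen' k, hg⟩) = coord a * coord ⟨gen' k, hg⟩ := by
  obtain ⟨hj, hr⟩ := pos_spec a
  obtain ⟨ht, htr⟩ := mulTable_spec hj hk hr
  obtain ⟨ht0, htr0⟩ := mulTable_spec (j := 0) (by norm_num) hk rep_zero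
  rw [one_mul] at htr0
  refine v_inj ?_
  rw [v_mul, v_coord, v_coord, v_coord, pos_eq (a := a * ⟨gen' k, hg⟩) ht htr,
    pos_eq (a := ⟨gen' k, hg⟩) ht0 htr0]
  exact (pm_spec.2.1 _ hj k hk).symm

theorem coord_mul (a b : syl) : coord (a * b) = coord a * coord b := by
  suffices key : ∀ x ∈ syl, ∀ a : syl, ∀ hx : x ∈ syl, coord (a * ⟨x, hx⟩) = coord a * coord ⟨x, hx⟩ from
    key b.1 b.2 a b.2
  intro x hx
  have hx' : x ∈ Submonoid.closure {a | ∃ k < 3, gen' k = a} := by
    rwa [← Subgroup.closure_toSubmonoid_of_finite, Subgroup.mem_toSubmonoid]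
  clear hx
  induction hx' using Submonoid.closure_induction_right with
  | one =>
    intro a hx
    rw [show (⟨1, hx⟩ : syl) = 1 from rfl, mul_one, coord_one, mul_one]
  | mul_right x hxc y hy ih =>
    intro a hxy
    obtain ⟨k, hk, rfl⟩ := hy
    have hg : gen' k ∈ syl := Subgroup.subset_closure ⟨k, hk, rfl⟩
    have hxs : x ∈ syl := by
      have := mul_mem hxy (inv_mem hg)
      rwa [mul_inv_cancel_right] at this
    have e : (⟨x * gen' k, hxy⟩ : syl) = ⟨x, hxs⟩ * ⟨gen' k, hg⟩ := rfl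
    rw [e, ← mul_assoc, coord_mul_gen _ hk hg, ih a hxs, coord_mul_gen _ hk hg, mul_assoc]

/-- the coordinates as a homomorphism -/
noncomputable def coordHom : syl →* Tm := MonoidHom.mk' coord coord_mul

theorem coord_bijective : Function.Bijective coordHom := by
  have hinj : Function.Injective coordHom := fun a b e => by
    have e' : pm.getD (pos a) 0 = pm.getD (pos b) 0 := by
      rw [← v_coord, ← v_coord]; exact congrArg v e
    have hp := pm_spec.2.2.2.1 _ (pos_spec a).1 _ (pos_spec b).1 e'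
    have hb := (pos_spec b).2
    rw [← hp] at hb
    exact Subtype.ext ((pos_spec a).2.ext hb)
  exact hinj.bijective_of_nat_card_le (by rw [card_Tm, card_syl])

/-- the Sylow subgroup is the model -/
noncomputable def sylEquiv : syl ≃* Tm := MulEquiv.ofBijective coordHom coord_bijective

theorem sylEquiv_mem_Qm (a : syl) : sylEquiv a ∈ Qm ↔ (a : Equiv.Perm (Fin D.n)) ∈ core := by
  show v (coord a) < 32 ↔ _
  rw [v_coord, ← pm_spec.2.2.1 _ (pos_spec a).1, mem_core_iff]
  refine ⟨fun h => ⟨_, h, (pos_spec a).2⟩, fun ⟨r, hr, hra⟩ => ?_⟩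
  rwa [pos_eq (rList_lt hr) hra]

/-- the centralizer of the central involution -/
abbrev CenGrp : Type := ↥cen

/-- the frame of the centralizer -/
noncomputable def frame : Frame CenGrp where
  S := Sylow.ofCard (syl.subgroupOf cen) (by
    rw [Nat.card_congr (Subgroup.subgroupOfEquivOfLe syl_le_cen).toEquiv, card_syl, card_cen,
      show (1920 : ℕ) = 2 ^ 7 * 15 by norm_num, Nat.factorization_mul (by norm_num) (by norm_num)]
    simp only [Finsupp.coe_add, Pi.add_apply, Nat.prime_two.factorization_pow, Finsupp.single_eq_same,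
      Nat.factorization_eq_zero_of_not_dvd (show ¬ 2 ∣ 15 by norm_num), add_zero]
    norm_num)
  φ := (Subgroup.subgroupOfEquivOfLe syl_le_cen).trans sylEquiv

theorem frame_emb (t : Tm) :
    ((frame.emb t : CenGrp) : Equiv.Perm (Fin D.n)) = (sylEquiv.symm t : syl) := rfl

theorem frame_mem_Q (x : CenGrp) : x ∈ frame.Q ↔ (x : Equiv.Perm (Fin D.n)) ∈ core := by
  constructor
  · rintro ⟨t, ht, rfl⟩
    rw [frame_emb, ← sylEquiv_mem_Qm, MulEquiv.apply_symm_apply]
    exact ht
  · intro hx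
    refine ⟨sylEquiv ⟨x, core_le hx⟩, (sylEquiv_mem_Qm _).2 hx, Subtype.ext ?_⟩
    rw [frame_emb, MulEquiv.symm_apply_apply]

theorem frame_rigid : frame.IsRigid := by
  have hnormal : frame.Q.Normal := ⟨fun x hx g => (frame_mem_Q _).2
    ((Subgroup.mem_normalizer_iff.1 (cen_le.2.2 g.2) x).1 ((frame_mem_Q x).1 hx))⟩
  have hcent : ∀ c ∈ Subgroup.centralizer (frame.Q : Set CenGrp), c = 1 ∨ c = frame.Z := by
    intro c hc
    have hcore : (c : Equiv.Perm (Fin D.n)) ∈ core :=
      centralizer_core (cen_le.1 c.2) fun r hr => congrArg Subtype.val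
        (Subgroup.mem_centralizer_iff.1 hc ⟨r, syl_le_cen (core_le hr)⟩ ((frame_mem_Q _).2 hr))
    exact frame.centralizer_inter_S (frame.Q_le ((frame_mem_Q c).2 hcore)) hc
  refine ⟨hnormal, hcent, ?_⟩
  have hker : frame.labA.ker ≤ frame.Q.subgroupOf _ := by
    rintro ⟨n, hn⟩ h
    obtain ⟨c, hc, hcn⟩ := frame.exists_cent_of_lab hn
      (congrArg Subtype.val (MonoidHom.mem_ker.1 h))
    show n ∈ frame.Q
    rw [show n = c * (c⁻¹ * n) by group]
    rcases hcent _ hcn with e | e <;> rw [e]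
    · rw [mul_one]; exact hc
    · exact mul_mem hc frame.Z_mem_Q
  have htop : Subgroup.normalizer (frame.Q : Set CenGrp) = ⊤ :=
    Subgroup.normalizer_eq_top (H := frame.Q)
  have hN : Nat.card ↥(Subgroup.normalizer (frame.Q : Set CenGrp)) = 1920 := by
    rw [htop, Subgroup.card_top]; exact card_cen
  have h32 : Nat.card frame.labA.ker ≤ 32 := by
    refine (Subgroup.card_le_of_le hker).trans ?_
    rw [Nat.card_congr (Subgroup.subgroupOfEquivOfLe Subgroup.le_normalizer).toEquiv, frame.card_Q]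
  have hmul := frame.labA.ker.index_mul_card
  rw [Subgroup.index_ker, hN] at hmul
  rw [← MonoidHom.range_eq_top]
  refine Subgroup.eq_top_of_le_card _ ?_
  rw [EightType55.card_A5]
  nlinarith

theorem grp_sylow_card : Nat.card (syl.subgroupOf grp) = 2 ^ (Nat.card grp).factorization 2 := by
  rw [Nat.card_congr (Subgroup.subgroupOfEquivOfLe syl_le).toEquiv, card_syl, Hundred.card_grp,
    show (604800 : ℕ) = 2 ^ 7 * 4725 by norm_num, Nat.factorization_mul (by norm_num) (by norm_num)]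
  simp only [Finsupp.coe_add, Pi.add_apply, Nat.prime_two.factorization_pow, Finsupp.single_eq_same,
    Nat.factorization_eq_zero_of_not_dvd (show ¬ 2 ∣ 4725 by norm_num), add_zero]
  norm_num

end CfsgLib.J2SylShape96.J2Side
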