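import Cfsg.Agent.J2SylShape96.CentralQuot
import Cfsg.Agent.AltCentralizer.Transfer

/-!
A group without normal subgroups of index two and with Sylow 2-subgroup of model type: the centralizer
of a central involution modulo its odd core is rigid, so unique up to isomorphism.
-/

set_option autoImplicit false
set_option linter.style.haveILetI false
set_option linter.unusedSectionVars false

universe u

namespace CfsgLib.J2SylShape96

open Cfsg
open CfsgLib.EightType55 (coreOf)

local instance : Fact (Nat.Prime 2) := ⟨Nat.prime_two⟩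

namespace Frame

variable {X : Type u} [Group X] [Finite X] (F : Frame X)

theorem eq_one_of_mem_core {x : X} (hx : x ∈ (F.S : Subgroup X)) (ho : x ∈ oddCore X) : x = 1 :=
  EightType55.eq_one_of_mem_both F.S.2
    (ExtremelyClosed.odd_of_not_two_dvd Constrained.pPrimeCore_not_dvd) hx ho

/-- The quotient by the odd core carries a rigid frame. -/
theorem exists_rigid [hO : (oddCore X).Normal] (hz : ∀ x, x * F.Z = F.Z * x)
    (honto : Function.Surjective F.labA) : ∃ E : Frame (X ⧸ oddCore X), E.IsRigid := by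
  set π := QuotientGroup.mk' (oddCore X)
  have hπ : Function.Surjective π := QuotientGroup.mk'_surjective _
  have hπ1 : ∀ x, π x = 1 ↔ x ∈ oddCore X := fun x => QuotientGroup.eq_one_iff x
  have hodd : Odd (Nat.card (oddCore X)) :=
    ExtremelyClosed.odd_of_not_two_dvd Constrained.pPrimeCore_not_dvd
  set S' : Sylow 2 (X ⧸ oddCore X) := F.S.mapSurjective hπ
  set g : Tm →* (S' : Subgroup (X ⧸ oddCore X)) :=
    (π.comp F.emb).codRestrict (S' : Subgroup (X ⧸ oddCore X)) fun t => ⟨_, F.emb_mem t, rfl⟩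
  have hg : Function.Bijective g := by
    refine ⟨(injective_iff_map_eq_one _).2 fun t ht => ?_, ?_⟩
    · exact F.emb_eq_one.1 (F.eq_one_of_mem_core (F.emb_mem t) ((hπ1 _).1 (congrArg Subtype.val ht)))
    · rintro ⟨_, x, hx, rfl⟩
      obtain ⟨t, rfl⟩ := F.exists_of_mem hx
      exact ⟨t, rfl⟩
  set E : Frame (X ⧸ oddCore X) := ⟨S', (MulEquiv.ofBijective g hg).symm⟩
  have hemb : ∀ t, E.emb t = π (F.emb t) := fun t => rfl
  have hQ : E.Q = F.Q.map π := by
    ext y
    constructor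
    · rintro ⟨t, ht, rfl⟩; exact ⟨_, ⟨t, ht, rfl⟩, (hemb t).symm⟩
    · rintro ⟨_, ⟨t, ht, rfl⟩, rfl⟩; exact ⟨t, ht, hemb t⟩
  have hnormal : E.Q.Normal := by
    have h := (F.Q_sup_core_normal hz honto).map π hπ
    rwa [Subgroup.map_sup, show (oddCore X).map π = ⊥ from
      (Subgroup.map_eq_bot_iff _).2 fun x hx => MonoidHom.mem_ker.2 ((hπ1 x).2 hx), sup_bot_eq,
      ← hQ] at h
  have hlift : ∀ x : X, ∃ n ∈ Subgroup.normalizer (F.Q : Set X), π n = π x := by
    intro x
    haveI := F.Q_sup_core_normal hz honto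
    obtain ⟨P, hP⟩ := (EightType55.isSyl_sup_odd F.isPGroup_Q hodd
      fun a _ r hr => hO.conj_mem r hr a).exists_sylow
    have htop := Sylow.normalizer_sup_eq_top P
    rw [hP, Subgroup.subgroupOf_map_subtype, inf_of_le_left le_sup_left] at htop
    obtain ⟨n, hn, l, hl, rfl⟩ := Subgroup.mem_sup_of_normal_right.1 (htop.ge (Subgroup.mem_top x))
    obtain ⟨a, ha, o, ho, rfl⟩ :=
      EightType55.exists_mul_of_mem_sup (fun a _ r hr => hO.conj_mem r hr a) hl
    refine ⟨n * a, mul_mem hn (Subgroup.le_normalizer ha), ?_⟩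
    rw [← mul_assoc, map_mul π (n * a) o, (hπ1 o).2 ho, mul_one]
  have hcore : coreOf (Subgroup.normalizer (F.Q : Set X)) ≤ oddCore X := by
    set R := coreOf (Subgroup.normalizer (F.Q : Set X))
    refine (le_sup_right : R ≤ oddCore X ⊔ R).trans ?_
    refine Constrained.le_pPrimeCore_of_not_dvd ⟨fun y hy x => ?_⟩ ?_
    · have hmem : ∀ y, y ∈ oddCore X ⊔ R ↔ π y ∈ R.map π := fun y => by
        rw [← Subgroup.mem_comap, Subgroup.comap_map_eq, QuotientGroup.ker_mk', sup_comm]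
      rw [hmem] at hy ⊢
      obtain ⟨r, hr, hry⟩ := hy
      obtain ⟨n, hn, hnx⟩ := hlift x
      exact ⟨n * r * n⁻¹, EightType55.conj_mem_coreOf hn hr,
        by rw [map_mul, map_mul, map_inv, hnx, hry, map_mul, map_mul, map_inv]⟩
    · have h1 : (Nat.card (oddCore X)).Coprime 2 := (Nat.coprime_two_right).2 hodd
      have h2 : (Nat.card R).Coprime 2 := (Nat.coprime_two_right).2 (EightType55.odd_coreOf _)
      exact (Nat.Prime.coprime_iff_not_dvd Nat.prime_two).1
        (SelfCentPrime.coprime_sup 2 (oddCore X) R h1 h2).symm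
  refine ⟨E, hnormal, fun c hc => ?_, fun a => ?_⟩
  · obtain ⟨x, rfl⟩ := hπ c
    obtain ⟨n, hn, hnx⟩ := hlift x
    have hnc : n ∈ Subgroup.centralizer (F.Q : Set X) := by
      refine Subgroup.mem_centralizer_iff.2 ?_
      rintro _ ⟨t, ht, rfl⟩
      have h1 : π (F.emb t) * π x = π x * π (F.emb t) := by
        rw [← hemb]
        exact Subgroup.mem_centralizer_iff.1 hc _ ⟨t, ht, rfl⟩
      have h2 : π (n * F.emb t * n⁻¹ * (F.emb t)⁻¹) = 1 := by
        rw [map_mul, map_mul, map_mul, map_inv, map_inv, hnx, ← h1]; group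
      have h3 : n * F.emb t * n⁻¹ * (F.emb t)⁻¹ = 1 :=
        F.eq_one_of_mem_core (F.Q_le (mul_mem
          ((Subgroup.mem_normalizer_iff.1 hn _).1 ⟨t, ht, rfl⟩) (inv_mem ⟨t, ht, rfl⟩)))
          ((hπ1 _).1 h2)
      exact (mul_inv_eq_iff_eq_mul.1 (mul_inv_eq_one.1 h3)).symm
    rw [← hnx]
    rcases F.centralizer_decomp hz hnc with h | h
    · exact Or.inl ((hπ1 n).2 (hcore h))
    · right
      have h' := (hπ1 _).2 (hcore h)
      rw [map_mul, mul_eq_one_iff_eq_inv, ← map_inv, inv_eq_of_mul_eq_one_right F.Z_mul_self] at h'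
      exact h'
  · obtain ⟨⟨n, hn⟩, hna⟩ := honto a
    have hmem : π n ∈ Subgroup.normalizer (E.Q : Set (X ⧸ oddCore X)) := by
      rw [Subgroup.normalizer_eq_top (H := E.Q)]; exact Subgroup.mem_top _
    refine ⟨⟨π n, hmem⟩, Subtype.ext (Equiv.ext fun i => ?_)⟩
    rw [← hna]
    show E.lab ⟨π n, hmem⟩ i = F.lab ⟨n, hn⟩ i
    obtain ⟨u, hu, hlu, -⟩ := E.lab_spec hmem i
    obtain ⟨w, hw, hlw, -⟩ := F.lab_spec hn i
    rw [hlu, hlw]
    congr 1
    refine E.emb_injective ?_
    rw [← hu, hemb, hemb, ← hw, map_mul, map_mul, map_inv]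

end Frame

variable {G : Type u} [Group G] [Finite G]

theorem inZ3_sub {F : Frame G} {t : Tm} (ht : InZ3 t) (h1 : t ≠ 1) :
    F.emb t = F.Z ∨ F.emb t = F.E ∨ F.emb t = F.E * F.Z := by
  rcases ht with rfl | rfl | rfl | rfl
  exacts [absurd rfl h1, Or.inl rfl, Or.inr (Or.inl rfl), Or.inr (Or.inr (map_mul _ _ _))]

/-- Without normal subgroups of index two the two singular representatives are fused in the
centralizer of the central involution. -/
theorem exists_fusing (F : Frame G) (h2 : ∀ H : Subgroup G, H.Normal → H.index ≠ 2) :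
    ∃ d : G, d * F.Z = F.Z * d ∧ d * F.emb qq * d⁻¹ = F.E := by
  set q := F.emb qq with hqdef
  set z := F.Z with hzdef
  obtain ⟨hqq, hqeq, hq1, hqz, hrr, hrq, hre, hee, hzz, hz1, he1, hez, -, -, hqezq⟩ := const_facts
  have hqZ : q * z = z * q := by rw [hqdef, hzdef, Frame.Z, ← map_mul, ← map_mul, zm_comm]
  have hqE : q * F.E * q⁻¹ = F.E * z := by
    rw [hqdef, hzdef, Frame.Z, Frame.E, ← map_inv, ← map_mul, ← map_mul, hqeq, map_mul]
  have hqEZ : q * (F.E * z) * q⁻¹ = F.E := by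
    rw [hqdef, hzdef, Frame.Z, Frame.E, ← map_inv, ← map_mul, ← map_mul, ← map_mul, hqezq]
  suffices key : ∃ d : G, d * z = z * d ∧ (d * q * d⁻¹ = F.E ∨ d * q * d⁻¹ = F.E * z) by
    obtain ⟨d, hd, h | h⟩ := key
    · exact ⟨d, hd, h⟩
    · refine ⟨q * d, by rw [mul_assoc, hd, ← mul_assoc, hqZ, mul_assoc], ?_⟩
      rw [show q * d * q * (q * d)⁻¹ = q * (d * q * d⁻¹) * q⁻¹ by group, h, hqEZ]
  set φ' : (F.S : Subgroup G) →* Multiplicative (ZMod 2) := psi.comp F.φ.toMonoidHom
  set R : Subgroup G := (F.S : Subgroup G) ⊓ Subgroup.centralizer ({q} : Set G)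
  have hx2 : q ^ 2 = 1 := by rw [sq, hqdef, ← map_mul, hqq, map_one]
  obtain ⟨g, hu, hψ, hR⟩ := AltCentralizer.exists_extremal F.S h2 φ' hx2
    (F.S.2.to_le (inf_le_left : R ≤ _))
    fun r hr => Subgroup.mem_centralizer_singleton_iff.1 hr.2
  set r := F.emb rr with hrdef
  have hrR : r ∈ R := ⟨F.emb_mem rr, Subgroup.mem_centralizer_singleton_iff.2 (by
    rw [hrdef, hqdef, ← map_mul, ← map_mul, hrq])⟩
  obtain ⟨tu, htu⟩ := F.exists_of_mem hu
  obtain ⟨tr, htr⟩ := F.exists_of_mem (hR r hrR)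
  have htr2 : F.emb (tr * tr) = g⁻¹ * z * g := by
    rw [map_mul, htr, show g⁻¹ * r * g * (g⁻¹ * r * g) = g⁻¹ * (r * r) * g by group, hrdef,
      ← map_mul, hrr]
    rfl
  have hcomm : tu * tr = tr * tu := F.emb_injective (by
    rw [map_mul, map_mul, htu, htr,
      show g⁻¹ * q * g * (g⁻¹ * r * g) = g⁻¹ * (q * r) * g by group,
      show g⁻¹ * r * g * (g⁻¹ * q * g) = g⁻¹ * (r * q) * g by group, hrdef, hqdef, ← map_mul,
      ← map_mul, hrq])
  have htr1 : tr * tr ≠ 1 := fun e => F.Z_ne_one (by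
    have h := htr2
    rw [e, map_one] at h
    calc z = g * (g⁻¹ * z * g) * g⁻¹ := by group
      _ = 1 := by rw [← h]; group)
  have htu1 : tu ≠ 1 := fun e => hq1 (F.emb_eq_one.1 (by
    have h := htu
    rw [e, map_one] at h
    calc F.emb qq = g * (g⁻¹ * q * g) * g⁻¹ := by rw [hqdef]; group
      _ = 1 := by rw [← h]; group))
  have htu2 : tu * tu = 1 := F.emb_injective (by
    rw [map_mul, htu, show g⁻¹ * q * g * (g⁻¹ * q * g) = g⁻¹ * q ^ 2 * g by rw [sq]; group, hx2,
      map_one]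
    group)
  have hpsi : psi tu = 1 := by
    rw [← hψ]
    show _ = psi (F.φ _)
    congr 1
    exact F.emb_injective (htu.trans (F.emb_phi hu).symm)
  have hU := inZ3_sub (F := F) (involution_kernel htu2 hpsi hcomm htr1) htu1
  have htr4 : tr * tr * (tr * tr) = 1 := F.emb_injective (by
    rw [map_mul, htr2, show g⁻¹ * z * g * (g⁻¹ * z * g) = g⁻¹ * (z * z) * g by group, hzdef,
      F.Z_mul_self, map_one]
    group)
  have hV := inZ3_sub (F := F) (sq_of_four htr4) htr1
  rw [htu] at hU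
  rw [htr2] at hV
  have hne : g⁻¹ * q * g ≠ g⁻¹ * z * g := fun e => hqz (F.emb_injective (by
    calc F.emb qq = g * (g⁻¹ * q * g) * g⁻¹ := by rw [hqdef]; group
      _ = F.emb zm := by rw [e, hzdef, Frame.Z]; group))
  rcases hV with hV | hV | hV
  · refine ⟨g⁻¹, ?_, ?_⟩
    · calc g⁻¹ * z = g⁻¹ * z * g * g⁻¹ := by group
        _ = z * g⁻¹ := by rw [hV]
    · rw [inv_inv]
      rcases hU with h | h | h
      · exact absurd (h.trans hV.symm) hne
      · exact Or.inl h
      · exact Or.inr h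
  all_goals
    -- an element interchanging `E` and `z`
    obtain ⟨h, hh⟩ : ∃ h : G, h * F.E * h⁻¹ = z := by
      first
        | exact ⟨g, by rw [← hV]; group⟩
        | exact ⟨g * q, by
            rw [show g * q * F.E * (g * q)⁻¹ = g * (q * F.E * q⁻¹) * g⁻¹ by group, hqE, ← hV]
            group⟩
    have hWz : F.W.map (MulAut.conj h).toMonoidHom ≤ Subgroup.centralizer ({z} : Set G) := by
      rintro _ ⟨w, hw, rfl⟩
      refine Subgroup.mem_centralizer_singleton_iff.2 ?_
      show h * w * h⁻¹ * z = z * (h * w * h⁻¹)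
      rw [← hh, show h * w * h⁻¹ * (h * F.E * h⁻¹) = h * (w * F.E) * h⁻¹ by group, F.W_comm hw]
      group
    have hSz : (F.S : Subgroup G) ≤ Subgroup.centralizer ({z} : Set G) := fun x hx => by
      obtain ⟨t, rfl⟩ := F.exists_of_mem hx
      rw [Subgroup.mem_centralizer_singleton_iff, hzdef, Frame.Z, ← map_mul, ← map_mul, zm_comm]
    obtain ⟨c, hc, hcb⟩ := (EightType55.isSyl_of_sylow F.S hSz).exists_conj hWz (F.isPGroup_W.map _)
    set k := c * h
    have hkE : k * F.E * k⁻¹ = z := by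
      rw [show k * F.E * k⁻¹ = c * (h * F.E * h⁻¹) * c⁻¹ by simp only [k]; group, hh,
        Subgroup.mem_centralizer_singleton_iff.1 hc, mul_inv_cancel_right]
    have hkr : k * r * k⁻¹ ∈ (F.S : Subgroup G) := by
      have hrW : r ∈ F.W := ⟨rr, MonoidHom.mem_ker.2 (psi_eq_one.2 hre), rfl⟩
      have := hcb (h * r * h⁻¹) ⟨r, hrW, rfl⟩
      rwa [show c * (h * r * h⁻¹) * c⁻¹ = k * r * k⁻¹ by simp only [k]; group] at this
    obtain ⟨ts, hts⟩ := F.exists_of_mem hkr
    have hts2 : F.emb (ts * ts) = k * z * k⁻¹ := by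
      rw [map_mul, hts, show k * r * k⁻¹ * (k * r * k⁻¹) = k * (r * r) * k⁻¹ by group, hrdef,
        ← map_mul, hrr]
      rfl
    have hts4 : ts * ts * (ts * ts) = 1 := F.emb_injective (by
      rw [map_mul, hts2, show k * z * k⁻¹ * (k * z * k⁻¹) = k * (z * z) * k⁻¹ by group, hzdef,
        F.Z_mul_self, map_one]
      group)
    have hts1 : ts * ts ≠ 1 := fun e => F.Z_ne_one (by
      have h' := hts2
      rw [e, map_one] at h'
      calc z = k⁻¹ * (k * z * k⁻¹) * k := by group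
        _ = 1 := by rw [← h']; group)
    have hK : k * z * k⁻¹ = F.E ∨ k * z * k⁻¹ = F.E * z := by
      have h' := inZ3_sub (F := F) (sq_of_four hts4) hts1
      rw [hts2] at h'
      refine h'.resolve_left fun e => hez (F.emb_injective ?_)
      calc F.E = k⁻¹ * (k * F.E * k⁻¹) * k := by group
        _ = k⁻¹ * (k * z * k⁻¹) * k := by rw [hkE, e]
        _ = F.emb zm := by rw [hzdef, Frame.Z]; group
    have hKE : k * (F.E * z) * k⁻¹ = F.E ∨ k * (F.E * z) * k⁻¹ = F.E * z := by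
      rw [show k * (F.E * z) * k⁻¹ = k * F.E * k⁻¹ * (k * z * k⁻¹) by group, hkE]
      have hzE : z * F.E = F.E * z := by rw [hzdef, Frame.Z, Frame.E, ← map_mul, ← map_mul, zm_comm]
      rcases hK with e | e <;> rw [e]
      · exact Or.inr hzE
      · left; rw [← mul_assoc, hzE, mul_assoc, hzdef, F.Z_mul_self, mul_one]
  · refine ⟨k * g⁻¹, ?_, ?_⟩
    · calc k * g⁻¹ * z = k * (g⁻¹ * z * g) * g⁻¹ := by group
        _ = k * F.E * k⁻¹ * k * g⁻¹ := by rw [hV]; group
        _ = z * (k * g⁻¹) := by rw [hkE]; group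
    · rw [show k * g⁻¹ * q * (k * g⁻¹)⁻¹ = k * (g⁻¹ * q * g) * k⁻¹ by group]
      rcases hU with e | e | e
      · rw [e]; exact hK
      · exact absurd (e.trans hV.symm) hne
      · rw [e]; exact hKE
  · refine ⟨k * q * g⁻¹, ?_, ?_⟩
    · calc k * q * g⁻¹ * z = k * (q * (g⁻¹ * z * g) * q⁻¹) * q * g⁻¹ := by group
        _ = k * F.E * k⁻¹ * (k * q * g⁻¹) := by rw [hV, hqEZ]; group
        _ = z * (k * q * g⁻¹) := by rw [hkE]
    · rw [show k * q * g⁻¹ * q * (k * q * g⁻¹)⁻¹ = k * (q * (g⁻¹ * q * g) * q⁻¹) * k⁻¹ by group]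
      rcases hU with e | e | e
      · rw [e, hqZ, mul_inv_cancel_right]; exact hK
      · rw [e, hqE]; exact hKE
      · exact absurd (e.trans hV.symm) hne

/-- The centralizer of the central involution modulo its odd core carries a rigid frame. -/
theorem exists_rigid_centralizer (F : Frame G) (h2 : ∀ H : Subgroup G, H.Normal → H.index ≠ 2)
    [(oddCore ↥(Subgroup.centralizer ({F.Z} : Set G))).Normal] :
    ∃ E : Frame (↥(Subgroup.centralizer ({F.Z} : Set G)) ⧸
      oddCore ↥(Subgroup.centralizer ({F.Z} : Set G))), E.IsRigid := by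
  set C := Subgroup.centralizer ({F.Z} : Set G)
  have hSC : (F.S : Subgroup G) ≤ C := fun x hx => by
    obtain ⟨t, rfl⟩ := F.exists_of_mem hx
    rw [Subgroup.mem_centralizer_singleton_iff, Frame.Z, ← map_mul, ← map_mul, zm_comm]
  set FC : Frame C := ⟨F.S.subtype hSC, (Subgroup.subgroupOfEquivOfLe hSC).trans F.φ⟩
  have hemb : ∀ t, ((FC.emb t : C) : G) = F.emb t := fun t => rfl
  have hz : ∀ x : C, x * FC.Z = FC.Z * x := fun x =>
    Subtype.ext (Subgroup.mem_centralizer_singleton_iff.1 x.2)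
  obtain ⟨d, hd, hde⟩ := exists_fusing F h2
  obtain ⟨n, hn⟩ := FC.exists_move hz (g := ⟨d, Subgroup.mem_centralizer_singleton_iff.2 hd⟩)
    (Subtype.ext hde)
  exact FC.exists_rigid hz (FC.labA_surjective ⟨n, hn⟩)

end CfsgLib.J2SylShape96
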