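import Cfsg.Agent.J2SylShape96.Inside

/-!
The outside involution is not fused, modulo the centre, to a singular element.
-/

set_option autoImplicit false
set_option linter.style.haveILetI false
set_option linter.unusedSectionVars false

universe u

namespace CfsgLib.J2SylShape96

open CfsgLib.EightType55 (IsSyl)

local instance : Fact (Nat.Prime 2) := ⟨Nat.prime_two⟩

namespace Frame

variable {X : Type u} [Group X] [Finite X] (F : Frame X)

/-- the centralizer of `ee` in the model, inside the group -/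
noncomputable def W : Subgroup X := psi.ker.map F.emb

/-- the elementary abelian subgroup, inside the group -/
noncomputable def A : Subgroup X := A1.map F.emb

theorem W_le_S : F.W ≤ (F.S : Subgroup X) := by
  rintro _ ⟨t, -, rfl⟩; exact F.emb_mem t

theorem isPGroup_W : IsPGroup 2 F.W := F.S.2.to_le F.W_le_S

theorem card_W : Nat.card F.W = 64 := by
  rw [W, Subgroup.card_map_of_injective F.emb_injective]
  have h := psi.ker.index_mul_card
  rw [Subgroup.index_ker, show psi.range = ⊤ from ?_, Subgroup.card_top, card_Tm,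
    show Nat.card (Multiplicative (ZMod 2)) = 2 by simp] at h
  · omega
  · refine eq_top_iff.2 fun y _ => ?_
    have h2 : ∀ y : Multiplicative (ZMod 2), y = psi 1 ∨ y = psi qq := by decide +kernel
    rcases h2 y with rfl | rfl <;> exact ⟨_, rfl⟩

theorem mem_W_of_comm {x : X} (hx : x ∈ (F.S : Subgroup X)) (h : x * F.E = F.E * x) : x ∈ F.W := by
  obtain ⟨t, rfl⟩ := F.exists_of_mem hx
  refine ⟨t, MonoidHom.mem_ker.2 (psi_eq_one.2 (F.emb_injective ?_)), rfl⟩
  rw [map_mul, map_mul]; exact h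

theorem W_comm {x : X} (hx : x ∈ F.W) : x * F.E = F.E * x := by
  obtain ⟨t, ht, rfl⟩ := hx
  rw [E, ← map_mul, ← map_mul, psi_eq_one.1 (MonoidHom.mem_ker.1 ht)]

theorem A_le_W : F.A ≤ F.W := Subgroup.map_mono fun _ ha => MonoidHom.mem_ker.2 (A1_psi ha)

theorem isSyl_W (hz : ∀ x, x * F.Z = F.Z * x) :
    IsSyl (Subgroup.centralizer ({F.E} : Set X)) F.W := by
  refine ⟨fun x hx => Subgroup.mem_centralizer_singleton_iff.2 (F.W_comm hx), F.isPGroup_W,
    fun B hB hB2 hWB => ?_⟩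
  have hBD : B ≤ Subgroup.normalizer ({F.E, F.E * F.Z} : Set X) := fun b hb =>
    F.mem_pair_normalizer hz (Or.inl (by
      rw [Subgroup.mem_centralizer_singleton_iff.1 (hB hb), mul_inv_cancel_right]))
  obtain ⟨l, hl, hlb⟩ :=
    (EightType55.isSyl_of_sylow F.S (F.S_le_pair hz)).exists_conj hBD hB2
  have hmem : ∀ b : B, l * (b : X) * l⁻¹ ∈ F.W := fun b => by
    refine F.mem_W_of_comm (hlb b b.2) ?_
    have hb : (b : X) * F.E = F.E * b := Subgroup.mem_centralizer_singleton_iff.1 (hB b.2)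
    have hbZ : (b : X) * (F.E * F.Z) = F.E * F.Z * b := by
      rw [← mul_assoc, hb, mul_assoc, hz, mul_assoc]
    rcases F.conj_E_of_mem (inv_mem hl) with e | e <;> rw [inv_inv] at e
    · calc l * (b : X) * l⁻¹ * F.E = l * (b * (l⁻¹ * F.E * l)) * l⁻¹ := by group
        _ = l * ((l⁻¹ * F.E * l) * b) * l⁻¹ := by rw [e, hb]
        _ = F.E * (l * (b : X) * l⁻¹) := by group
    · calc l * (b : X) * l⁻¹ * F.E = l * (b * (l⁻¹ * F.E * l)) * l⁻¹ := by group
        _ = l * ((l⁻¹ * F.E * l) * b) * l⁻¹ := by rw [e, hbZ]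
        _ = F.E * (l * (b : X) * l⁻¹) := by group
  have hle : Nat.card B ≤ Nat.card F.W :=
    Nat.card_le_card_of_injective (fun b : B => (⟨_, hmem b⟩ : F.W)) fun a b e =>
      Subtype.ext (by simpa using congrArg Subtype.val e)
  exact (Subgroup.eq_of_le_of_card_ge hWB hle).ge

theorem W_le_normalizer : F.W ≤ Subgroup.normalizer (F.A : Set X) := by
  rintro _ ⟨w, hw, rfl⟩
  refine Subgroup.mem_normalizer_fintype ?_
  rintro _ ⟨a, ha, rfl⟩
  exact ⟨w * a * w⁻¹, ker_normalizes (MonoidHom.mem_ker.1 hw) ha,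
    by rw [map_mul, map_mul, map_inv]⟩

theorem card_A : Nat.card F.A = 16 := by
  rw [A, Subgroup.card_map_of_injective F.emb_injective, card_A1]

theorem isSyl_normalizer : IsSyl (Subgroup.normalizer (F.A : Set X)) F.W := by
  refine ⟨F.W_le_normalizer, F.isPGroup_W, fun B hB hB2 hWB => ?_⟩
  by_contra hlt
  obtain ⟨T, hT⟩ := hB2.exists_le_sylow
  obtain ⟨l, hl⟩ := MulAction.exists_smul_eq X T F.S
  have hlB : ∀ b : B, l * (b : X) * l⁻¹ ∈ (F.S : Subgroup X) := fun b => by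
    rw [← hl]; exact ⟨b, hT b.2, rfl⟩
  obtain ⟨k, hk⟩ := IsPGroup.iff_card.1 hB2
  have h64 : 64 < Nat.card B := by
    rw [← F.card_W]
    rcases lt_or_ge (Nat.card F.W) (Nat.card B) with h | h
    · exact h
    · exact absurd (Subgroup.eq_of_le_of_card_ge hWB h).ge hlt
  have h128 : Nat.card (F.S : Subgroup X) ≤ Nat.card B := by
    rw [Nat.card_congr F.φ.toEquiv, card_Tm, hk]
    rw [hk, show (64 : ℕ) = 2 ^ 6 by norm_num] at h64
    rw [show (128 : ℕ) = 2 ^ 7 by norm_num]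
    exact Nat.pow_le_pow_right (by norm_num) ((Nat.pow_lt_pow_iff_right (by norm_num)).1 h64)
  set f : B → (F.S : Subgroup X) := fun b => ⟨_, hlB b⟩
  have hfinj : Function.Injective f := fun a b e =>
    Subtype.ext (by simpa [f] using congrArg Subtype.val e)
  have hfsurj : Function.Surjective f :=
    (hfinj.bijective_of_nat_card_le h128).2
  have hmem : ∀ a : A1, l * F.emb a * l⁻¹ ∈ (F.S : Subgroup X) := fun a =>
    hlB ⟨F.emb a, hWB (F.A_le_W ⟨a, a.2, rfl⟩)⟩
  set g : A1 →* Tm := F.φ.toMonoidHom.comp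
    (((MulAut.conj l).toMonoidHom.comp (F.emb.comp A1.subtype)).codRestrict (F.S : Subgroup X) hmem)
  have hg : ∀ a : A1, F.emb (g a) = l * F.emb a * l⁻¹ := fun a => F.emb_phi (hmem a)
  have hginj : Function.Injective g := fun a b e => by
    have := congrArg F.emb e
    rw [hg, hg, mul_left_inj, mul_right_inj] at this
    exact Subtype.ext (F.emb_injective this)
  have hnormal : ∀ x : Tm, ∀ m ∈ g.range, x * m * x⁻¹ ∈ g.range := by
    rintro x _ ⟨a, rfl⟩
    obtain ⟨b, hb⟩ := hfsurj ⟨F.emb x, F.emb_mem x⟩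
    have hb' : l * (b : X) * l⁻¹ = F.emb x := congrArg Subtype.val hb
    obtain ⟨a', ha', he⟩ := (Subgroup.mem_normalizer_iff.1 (hB b.2) (F.emb a)).1 ⟨a, a.2, rfl⟩
    refine ⟨⟨a', ha'⟩, F.emb_injective ?_⟩
    rw [map_mul, map_mul, map_inv, hg, hg, ← hb']
    show l * F.emb a' * l⁻¹ = _
    rw [he]
    group
  rcases elementary_sixteen (M := g.range)
    (by rw [← Nat.card_congr (MonoidHom.ofInjective hginj).toEquiv, card_A1])
    (by rintro _ ⟨a, rfl⟩
        rw [← map_mul, show a * a = 1 from Subtype.ext (A1_sq a.2), map_one]) with e | e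
  · have h0 : x0 ∈ g.range := by rw [e]; exact A1_facts.1
    have h1 := hnormal qq x0 h0
    rw [e] at h1
    exact A1_facts.2.2.2.1 h1
  · refine A1_facts.2.2.2.1 ?_
    have hsymm : qq * (qq * x0 * qq⁻¹) * qq⁻¹ = x0 := by
      have hinv : qq⁻¹ = qq := inv_eq_of_mul_eq_one_right const_facts.1
      rw [hinv, show qq * (qq * x0 * qq) * qq = qq * qq * x0 * (qq * qq) by group, const_facts.1,
        one_mul, mul_one]
    have h1 : qq * x0 * qq⁻¹ ∈ A2 := by
      show qq * (qq * x0 * qq⁻¹) * qq⁻¹ ∈ A1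
      rw [hsymm]; exact A1_facts.1
    have h0 : qq * x0 * qq⁻¹ ∈ g.range := by rw [e]; exact h1
    have h2 := hnormal qq _ h0
    rw [e] at h2
    rw [hsymm] at h2
    exact h2

/-- No element carries the outside involution to a singular element modulo the centre. -/
theorem not_fused (hz : ∀ x, x * F.Z = F.Z * x) {c : X}
    (hc : c * F.emb x0 * c⁻¹ = F.E ∨ c * F.emb x0 * c⁻¹ = F.E * F.Z) : False := by
  set X0 := F.emb x0
  have hcA : F.A.map (MulAut.conj c).toMonoidHom ≤ Subgroup.centralizer ({F.E} : Set X) := by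
    rintro _ ⟨_, ⟨a, ha, rfl⟩, rfl⟩
    refine Subgroup.mem_centralizer_singleton_iff.2 ?_
    show c * F.emb a * c⁻¹ * F.E = F.E * (c * F.emb a * c⁻¹)
    have hax : F.emb a * X0 = X0 * F.emb a := by
      simp only [X0, ← map_mul]
      congr 1
      have h := A1_sq (mul_mem ha A1_facts.1)
      rw [← inv_eq_iff_mul_eq_one, mul_inv_rev, inv_eq_of_mul_eq_one_right (A1_sq A1_facts.1),
        inv_eq_of_mul_eq_one_right (A1_sq ha)] at h
      exact h.symm
    have h' : c * F.emb a * c⁻¹ * (c * X0 * c⁻¹) = c * X0 * c⁻¹ * (c * F.emb a * c⁻¹) := by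
      rw [show c * F.emb a * c⁻¹ * (c * X0 * c⁻¹) = c * (F.emb a * X0) * c⁻¹ by group, hax]
      group
    rcases hc with e | e <;> rw [e] at h'
    · exact h'
    · rw [← mul_assoc, mul_assoc F.E F.Z, ← hz, ← mul_assoc] at h'
      exact mul_right_cancel h'
  obtain ⟨l, hl, hlb⟩ := (F.isSyl_W hz).exists_conj hcA ((F.S.2.to_le
    (F.A_le_W.trans F.W_le_S)).map _)
  have hlE : l * F.E * l⁻¹ = F.E := by
    rw [Subgroup.mem_centralizer_singleton_iff.1 hl, mul_inv_cancel_right]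
  set n := l * c
  have hnX0 : n * X0 * n⁻¹ = F.E ∨ n * X0 * n⁻¹ = F.E * F.Z := by
    rw [show n * X0 * n⁻¹ = l * (c * X0 * c⁻¹) * l⁻¹ by simp only [n]; group]
    refine hc.imp (fun e => by rw [e, hlE]) (fun e => ?_)
    rw [e, ← mul_assoc, mul_assoc (l * F.E), ← hz l⁻¹, ← mul_assoc, hlE]
  have hmem : ∀ a : A1, n * F.emb a * n⁻¹ ∈ (F.S : Subgroup X) := fun a => by
    have := hlb (c * F.emb a * c⁻¹) ⟨F.emb a, ⟨a, a.2, rfl⟩, rfl⟩
    rw [show l * (c * F.emb a * c⁻¹) * l⁻¹ = n * F.emb a * n⁻¹ by simp only [n]; group] at this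
    exact F.W_le_S this
  set g : A1 →* Tm := F.φ.toMonoidHom.comp
    (((MulAut.conj n).toMonoidHom.comp (F.emb.comp A1.subtype)).codRestrict (F.S : Subgroup X) hmem)
  have hg : ∀ a : A1, F.emb (g a) = n * F.emb a * n⁻¹ := fun a => F.emb_phi (hmem a)
  have hginj : Function.Injective g := fun a b e => by
    have := congrArg F.emb e
    rw [hg, hg, mul_left_inj, mul_right_inj] at this
    exact Subtype.ext (F.emb_injective this)
  obtain ⟨m, hm, hmX0⟩ : ∃ m ∈ Subgroup.normalizer (F.A : Set X),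
      m * X0 * m⁻¹ = F.E ∨ m * X0 * m⁻¹ = F.E * F.Z := by
    rcases elementary_sixteen (M := g.range)
      (by rw [← Nat.card_congr (MonoidHom.ofInjective hginj).toEquiv, card_A1])
      (by rintro _ ⟨a, rfl⟩
          rw [← map_mul, show a * a = 1 from Subtype.ext (A1_sq a.2), map_one]) with e | e
    · refine ⟨n, Subgroup.mem_normalizer_fintype ?_, hnX0⟩
      rintro _ ⟨a, ha, rfl⟩
      exact ⟨g ⟨a, ha⟩, (SetLike.ext_iff.1 e _).1 ⟨_, rfl⟩, hg ⟨a, ha⟩⟩
    · refine ⟨F.emb qq * n, Subgroup.mem_normalizer_fintype ?_, ?_⟩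
      · rintro _ ⟨a, ha, rfl⟩
        refine ⟨qq * g ⟨a, ha⟩ * qq⁻¹, ?_, ?_⟩
        · show g ⟨a, ha⟩ ∈ A2
          rw [← e]; exact ⟨_, rfl⟩
        · rw [map_mul, map_mul, map_inv, hg]; group
      · rw [show F.emb qq * n * X0 * (F.emb qq * n)⁻¹ =
          F.emb qq * (n * X0 * n⁻¹) * (F.emb qq)⁻¹ by group]
        rcases hnX0 with h | h <;> rw [h]
        · right
          rw [E, Z, ← map_inv, ← map_mul, ← map_mul, ← map_mul, const_facts.2.1]
        · left
          rw [E, Z, ← map_inv, ← map_mul, ← map_mul, ← map_mul,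
            const_facts.2.2.2.2.2.2.2.2.2.2.2.2.2.2]
  -- the action on eight points
  set K := Subgroup.normalizer (F.A : Set X)
  set eA : A1 ≃* F.A := A1.equivMapOfInjective F.emb F.emb_injective
  set σ : K →* MulAut A1 :=
    (MulAut.congr eA.symm).toMonoidHom.comp (Subgroup.normalizerMonoidHom F.A)
  have hσ : ∀ (k : K) (a : A1), F.emb (σ k a) = k * F.emb a * (k : X)⁻¹ := by
    intro k a
    show ((eA (eA.symm (Subgroup.normalizerMonoidHom F.A k (eA a))) : F.A) : X) = _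
    rw [MulEquiv.apply_symm_apply]
    rfl
  set aq : Fin 8 → A1 := fun i => ⟨el (repN i), (cod_rep i).1⟩
  set act0 : K → Fin 8 → Fin 8 := fun k i => cod (σ k (aq i) : Tm)
  have hzA : zm ∈ A1 := A1_facts.2.2.1
  have hcodz : cod zm = 0 := by decide +kernel
  have hcodmz : ∀ a : Tm, a ∈ A1 → cod (a * zm) = cod a := fun a ha => Fin.ext (by
    rw [cod_mul ha hzA, hcodz]; exact Nat.xor_zero _)
  have hσz : ∀ k : K, σ k ⟨zm, hzA⟩ = ⟨zm, hzA⟩ := fun k => Subtype.ext (F.emb_injective (by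
    rw [hσ]; show (k : X) * F.Z * (k : X)⁻¹ = F.Z
    rw [hz, mul_inv_cancel_right]))
  have hkey : ∀ (k : K) (a : A1), cod (σ k a : Tm) = act0 k (cod (a : Tm)) := by
    intro k a
    show _ = cod (σ k (aq (cod (a : Tm))) : Tm)
    rcases cod_eq a.2 (cod_rep (cod (a : Tm))).1 (cod_rep (cod (a : Tm))).2.symm with e | e
    · rw [show a = aq (cod (a : Tm)) from Subtype.ext e]
      rw [(cod_rep (cod (a : Tm))).2]
    · conv_lhs =>
        rw [show a = aq (cod (a : Tm)) * ⟨zm, hzA⟩ from Subtype.ext e, map_mul, hσz]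
      exact hcodmz _ (σ k _).2
  have hmulact : ∀ (j k : K) (i : Fin 8), act0 (j * k) i = act0 j (act0 k i) := fun j k i => by
    show cod (σ (j * k) (aq i) : Tm) = _
    rw [map_mul, MulAut.mul_apply, hkey]
  have honeact : ∀ i : Fin 8, act0 1 i = i := fun i => by
    show cod (σ 1 (aq i) : Tm) = i
    rw [map_one, MulAut.one_apply]
    exact (cod_rep i).2
  set act : K →* Equiv.Perm (Fin 8) :=
    { toFun := fun k =>
        { toFun := act0 k
          invFun := act0 k⁻¹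
          left_inv := fun i => by rw [← hmulact, inv_mul_cancel, honeact]
          right_inv := fun i => by rw [← hmulact, mul_inv_cancel, honeact] }
      map_one' := Equiv.ext honeact
      map_mul' := fun j k => Equiv.ext (hmulact j k) }
  have hlin : ∀ (k : K) (i j r : Fin 8), (r : ℕ) = (i : ℕ) ^^^ (j : ℕ) →
      ((act k r : Fin 8) : ℕ) = (act k i : ℕ) ^^^ (act k j : ℕ) := by
    intro k i j r hr
    have e : cod (((aq i) * (aq j) : A1) : Tm) = r := Fin.ext (by
      rw [Subgroup.coe_mul, cod_mul (aq i).2 (aq j).2, (cod_rep i).2, (cod_rep j).2, hr])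
    show ((act0 k r : Fin 8) : ℕ) = _
    rw [← e, ← hkey, map_mul, Subgroup.coe_mul, cod_mul (σ k _).2 (σ k _).2]
    rfl
  have hactW : ∀ (t : Tm) (ht : psi t = 1) (b : Fin 4),
      (∀ a ∈ A1, cod (t * a * t⁻¹) = fP b (cod a)) →
      act ⟨F.emb t, F.W_le_normalizer ⟨t, MonoidHom.mem_ker.2 ht, rfl⟩⟩ = fP b := by
    intro t ht b hb
    refine Equiv.ext fun i => ?_
    show cod (σ _ (aq i) : Tm) = fP b i
    have := hb _ (aq i).2
    rw [(cod_rep i).2] at this
    rw [← this]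
    congr 1
    exact F.emb_injective (by rw [hσ, map_mul, map_mul, map_inv])
  have hact1 : act ⟨m, hm⟩ 1 ≠ 1 := by
    intro h1
    have hX : act ⟨m, hm⟩ (cod x0) = cod ee := by
      show act0 ⟨m, hm⟩ (cod ((⟨x0, A1_facts.1⟩ : A1) : Tm)) = _
      rw [← hkey]
      have := hσ ⟨m, hm⟩ ⟨x0, A1_facts.1⟩
      rcases hmX0 with e | e
      · rw [F.emb_injective (this.trans e)]
      · rw [F.emb_injective (this.trans (e.trans (map_mul F.emb ee zm).symm)),
          hcodmz ee A1_facts.2.1]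
    rw [cod_ee_x0.1, cod_ee_x0.2] at hX
    exact absurd ((act ⟨m, hm⟩).injective (hX.trans h1.symm)) (by decide)
  obtain ⟨u, w, hne, hfour⟩ := exists_order_four (act ⟨m, hm⟩) (hlin _) hact1
  set ku : K := ⟨F.emb (el u), F.W_le_normalizer ⟨_, MonoidHom.mem_ker.2 (action_realised u).1, rfl⟩⟩
  set kw : K := ⟨F.emb (el w), F.W_le_normalizer ⟨_, MonoidHom.mem_ker.2 (action_realised w).1, rfl⟩⟩
  set y : K := ku * ⟨m, hm⟩ * kw * (⟨m, hm⟩)⁻¹
  have hy : act y = fP u * act ⟨m, hm⟩ * fP w * (act ⟨m, hm⟩)⁻¹ := by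
    simp only [y, map_mul, map_inv]
    rw [hactW _ (action_realised u).1 u (action_realised u).2,
      hactW _ (action_realised w).1 w (action_realised w).2]
  rw [← hy] at hne hfour
  -- pass to the 2-part
  obtain ⟨k, j, hj, hord⟩ : ∃ k j, Odd j ∧ orderOf y = 2 ^ k * j :=
    ⟨_, _, Nat.odd_iff.2 (Nat.two_dvd_ne_zero.1
      (Nat.not_dvd_ordCompl Nat.prime_two (orderOf_pos y).ne')),
      (Nat.ordProj_mul_ordCompl_eq_self (orderOf y) 2).symm⟩
  have hp : IsPGroup 2 ↥(Subgroup.zpowers ((y ^ j : K) : X)) := by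
    refine fun g => ⟨k, Subtype.ext ?_⟩
    obtain ⟨i, hi⟩ := Subgroup.mem_zpowers_iff.1 g.2
    have hpow : ((y ^ j : K) : X) ^ 2 ^ k = 1 := by
      rw [← Subgroup.coe_pow, ← pow_mul, mul_comm, ← hord, pow_orderOf_eq_one, Subgroup.coe_one]
    rw [Subgroup.coe_pow, ← hi, ← zpow_natCast, ← zpow_mul, mul_comm, zpow_mul, zpow_natCast,
      hpow, one_zpow]
    rfl
  obtain ⟨r, hr, hrb⟩ := F.isSyl_normalizer.exists_conj
    (Subgroup.zpowers_le.2 (y ^ j).2) hp
  obtain ⟨t, ht, hte⟩ := hrb _ (Subgroup.mem_zpowers _)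
  obtain ⟨b, hb⟩ := ker_action (MonoidHom.mem_ker.1 ht)
  have hyj : act (y ^ j) * act (y ^ j) = 1 := by
    have e : (⟨r, hr⟩ : K) * y ^ j * (⟨r, hr⟩ : K)⁻¹ =
        ⟨F.emb t, F.W_le_normalizer ⟨t, ht, rfl⟩⟩ := Subtype.ext hte.symm
    have h2 := congrArg act e
    rw [hactW t (MonoidHom.mem_ker.1 ht) b hb, map_mul, map_mul, map_inv] at h2
    have h3 : act (y ^ j) = (act ⟨r, hr⟩)⁻¹ * fP b * act ⟨r, hr⟩ := by rw [← h2]; group
    rw [h3, show (act ⟨r, hr⟩)⁻¹ * fP b * act ⟨r, hr⟩ * ((act ⟨r, hr⟩)⁻¹ * fP b * act ⟨r, hr⟩) =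
      (act ⟨r, hr⟩)⁻¹ * (fP b * fP b) * act ⟨r, hr⟩ by group, fP_mul_self, mul_one, inv_mul_cancel]
  rw [map_pow] at hyj
  obtain ⟨i, rfl⟩ := hj
  refine hne ?_
  have h4 : act y ^ 4 = 1 := by
    rw [show (4 : ℕ) = 2 + 2 from rfl, pow_add, sq]; exact hfour
  rw [← pow_add, show 2 * i + 1 + (2 * i + 1) = 4 * i + 2 by ring, pow_add, pow_mul, h4, one_pow,
    one_mul, sq] at hyj
  exact hyj

end Frame

end CfsgLib.J2SylShape96
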