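import Cfsg.Agent.J2SylShape96.Frame

/-!
A finite group with Sylow 2-subgroup of model type in which the extraspecial subgroup is normal,
self-centralizing up to its centre and fully moved, is determined up to isomorphism.
-/

set_option autoImplicit false
set_option linter.style.haveILetI false

universe u w

namespace CfsgLib.J2SylShape96

open CfsgLib.EightType55 (A5)

local instance : Fact (Nat.Prime 2) := ⟨Nat.prime_two⟩

/-- the centre of the model to the group of order two -/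
def cz (t : Tm) : Multiplicative (ZMod 2) := if t = 1 then 1 else Multiplicative.ofAdd 1

theorem cz_mul {s t : Tm} (hs : s = 1 ∨ s = zm) (ht : t = 1 ∨ t = zm) :
    cz (s * t) = cz s * cz t := by
  rcases hs with rfl | rfl <;> rcases ht with rfl | rfl <;> decide +kernel

theorem cz_zm : cz zm = Multiplicative.ofAdd 1 := by decide +kernel
theorem cz_one : cz 1 = 1 := by decide +kernel

namespace Frame

variable {X : Type u} [Group X] [Finite X]

/-- normal, centralizer of order two, full action on the labels -/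
structure IsRigid (F : Frame X) : Prop where
  normal : F.Q.Normal
  cent : ∀ c ∈ Subgroup.centralizer (F.Q : Set X), c = 1 ∨ c = F.Z
  onto : Function.Surjective F.labA

variable {F : Frame X}

theorem IsRigid.mem (h : F.IsRigid) (x : X) : x ∈ Subgroup.normalizer (F.Q : Set X) := by
  haveI := h.normal
  rw [Subgroup.normalizer_eq_top]
  exact Subgroup.mem_top x

/-- the representation of the whole group -/
noncomputable def IsRigid.rep (h : F.IsRigid) : X →* MulAut Qm :=
  F.rho.comp ((MonoidHom.id X).codRestrict (Subgroup.normalizer (F.Q : Set X)) h.mem)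

theorem IsRigid.rep_apply (h : F.IsRigid) (x : X) : h.rep x = F.rho ⟨x, h.mem x⟩ := rfl

theorem IsRigid.rep_emb (h : F.IsRigid) (t : Tm) (x : Qm) :
    ((h.rep (F.emb t) x : Qm) : Tm) = t * x * t⁻¹ :=
  F.emb_injective (by rw [h.rep_apply, F.rho_spec, map_mul, map_mul, map_inv])

theorem IsRigid.rep_Z (h : F.IsRigid) : h.rep F.Z = 1 :=
  MulEquiv.ext fun x => Subtype.ext (by
    rw [Frame.Z, h.rep_emb, zm_comm, mul_inv_cancel_right]; rfl)

theorem IsRigid.Z_central (h : F.IsRigid) (x : X) : x * F.Z = F.Z * x := by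
  have e := F.rho_spec ⟨x, h.mem x⟩ qz
  rw [aut_qz] at e
  have e' : F.Z = x * F.Z * x⁻¹ := e
  conv_rhs => rw [e']
  group

theorem IsRigid.rep_eq_one (h : F.IsRigid) {x : X} (hx : h.rep x = 1) : x = 1 ∨ x = F.Z := by
  refine h.cent x (Subgroup.mem_centralizer_iff.2 ?_)
  rintro _ ⟨t, ht, rfl⟩
  have e := F.rho_spec ⟨x, h.mem x⟩ ⟨t, ht⟩
  rw [← h.rep_apply, hx] at e
  have e' : F.emb t = x * F.emb t * x⁻¹ := e
  conv_lhs => rw [e']
  group

theorem IsRigid.mem_range (h : F.IsRigid) {σ : MulAut Qm} :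
    σ ∈ h.rep.range ↔ labHom σ ∈ alternatingGroup (Fin 5) := by
  constructor
  · rintro ⟨x, rfl⟩; exact F.lab_even _
  · intro hσ
    obtain ⟨n, hn⟩ := h.onto ⟨_, hσ⟩
    have hn' : labHom (h.rep n) = labHom σ := congrArg Subtype.val hn
    obtain ⟨c, hc⟩ := exists_conj_of_labHom (σ := σ * (h.rep n)⁻¹)
      (by rw [map_mul, map_inv, hn', mul_inv_cancel])
    have hcx : h.rep (F.emb c) = σ * (h.rep n)⁻¹ :=
      MulEquiv.ext fun x => Subtype.ext (by rw [h.rep_emb, hc]; rfl)
    exact ⟨F.emb c * n, by rw [map_mul, hcx, inv_mul_cancel_right]⟩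

end Frame

/-- Two rigid frames live in isomorphic groups. -/
theorem rigid_unique {X : Type u} {Y : Type w} [Group X] [Finite X] [Group Y] [Finite Y]
    {F : Frame X} {E : Frame Y} (hF : F.IsRigid) (hE : E.IsRigid) : Nonempty (X ≃* Y) := by
  set D : Subgroup (X × Y) :=
    MonoidHom.eqLocus (hF.rep.comp (MonoidHom.fst X Y)) (hE.rep.comp (MonoidHom.snd X Y)) with hD
  have memD : ∀ p : X × Y, p ∈ D ↔ hF.rep p.1 = hE.rep p.2 := fun _ => Iff.rfl
  set p1 : D →* X := (MonoidHom.fst X Y).comp D.subtype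
  set p2 : D →* Y := (MonoidHom.snd X Y).comp D.subtype
  have surj1 : Function.Surjective p1 := fun x => by
    obtain ⟨y, hy⟩ := hE.mem_range.2 (hF.mem_range.1 ⟨x, rfl⟩)
    exact ⟨⟨(x, y), hy.symm⟩, rfl⟩
  set SD : Subgroup D := (F.S : Subgroup X).comap p1
  have hdiff : ∀ d : SD, ∃ s t : Tm, F.emb s = p1 d ∧ E.emb t = p2 d ∧
      (s * t⁻¹ = 1 ∨ s * t⁻¹ = zm) := by
    intro d
    obtain ⟨s, hs⟩ := F.exists_of_mem d.2
    have hd : hF.rep (p1 d) = hE.rep (p2 d) := d.1.2
    rw [← hs] at hd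
    have hc : hE.rep ((E.emb s)⁻¹ * p2 d) = 1 := by
      rw [map_mul, map_inv, ← hd, inv_mul_eq_one]
      exact MulEquiv.ext fun x => Subtype.ext (by rw [hE.rep_emb, hF.rep_emb])
    rcases hE.rep_eq_one hc with e | e
    · exact ⟨s, s, hs, (inv_mul_eq_one.1 e), Or.inl (mul_inv_cancel s)⟩
    · refine ⟨s, s * zm, hs, ?_, Or.inr ?_⟩
      · rw [map_mul, show E.emb zm = E.Z from rfl, ← e, mul_inv_cancel_left]
      · rw [mul_inv_rev, inv_eq_of_mul_eq_one_right const_facts.2.2.2.2.2.2.2.2.1, ← mul_assoc,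
          ← zm_comm s, mul_inv_cancel_right]
  choose s t hs ht hst using hdiff
  set χ : SD →* Multiplicative (ZMod 2) :=
    { toFun := fun d => cz (s d * (t d)⁻¹)
      map_one' := by
        have h1 : s 1 = 1 := F.emb_eq_one.1 (by rw [hs]; rfl)
        have h2 : t 1 = 1 := E.emb_eq_one.1 (by rw [ht]; rfl)
        rw [h1, h2, inv_one, mul_one]; exact cz_one
      map_mul' := fun a b => by
        have h1 : s (a * b) = s a * s b := F.emb_injective (by
          rw [map_mul, hs, hs, hs]; exact map_mul p1 (a : D) b)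
        have h2 : t (a * b) = t a * t b := E.emb_injective (by
          rw [map_mul, ht, ht, ht]; exact map_mul p2 (a : D) b)
        have hcomm : (t a)⁻¹ * (s b * (t b)⁻¹) = s b * (t b)⁻¹ * (t a)⁻¹ := by
          rcases hst b with e | e <;> rw [e]
          · rw [mul_one, one_mul]
          · exact (zm_comm _).symm
        rw [← cz_mul (hst a) (hst b), h1, h2, mul_inv_rev]
        congr 1
        calc s a * s b * ((t b)⁻¹ * (t a)⁻¹) = s a * (s b * (t b)⁻¹ * (t a)⁻¹) := by group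
          _ = s a * ((t a)⁻¹ * (s b * (t b)⁻¹)) := by rw [hcomm]
          _ = s a * (t a)⁻¹ * (s b * (t b)⁻¹) := by group } with hχ
  have hodd : SD.index % 2 = 1 := by
    rw [Subgroup.index_comap_of_surjective _ surj1]
    exact Nat.two_dvd_ne_zero.1 F.S.not_dvd_index
  have hcentral : ∀ (d : D) (hd : d ∈ SD), (∀ g : D, g * d = d * g) →
      χ.transfer d = χ ⟨d, hd⟩ := by
    intro d hd hc
    have hkey : ∀ (k : ℕ) (g₀ : D), g₀⁻¹ * d ^ k * g₀ ∈ SD → g₀⁻¹ * d ^ k * g₀ = d ^ k := by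
      intro k g₀ _
      rw [mul_assoc, ← ((Commute.pow_right (show Commute g₀ d from hc g₀) k).eq),
        inv_mul_cancel_left]
    rw [χ.transfer_eq_pow d hkey,
      show (⟨d ^ SD.index, _⟩ : SD) = ⟨d, hd⟩ ^ SD.index from Subtype.ext rfl, map_pow]
    obtain ⟨k, hk⟩ : ∃ k, SD.index = 2 * k + 1 := ⟨SD.index / 2, by omega⟩
    have h2 : χ ⟨d, hd⟩ ^ 2 = 1 := by
      generalize χ ⟨d, hd⟩ = a
      revert a
      decide
    rw [hk, pow_succ, pow_mul, h2, one_pow, one_mul]
  set τ := χ.transfer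
  have hZ1 : ((F.Z, 1) : X × Y) ∈ D := by rw [memD]; simp [hF.rep_Z]
  have hZ2 : ((1, E.Z) : X × Y) ∈ D := by rw [memD]; simp [hE.rep_Z]
  have hτ1 : τ ⟨_, hZ1⟩ = Multiplicative.ofAdd 1 := by
    have hm : (⟨_, hZ1⟩ : D) ∈ SD := F.emb_mem zm
    rw [hcentral _ hm fun g => Subtype.ext (Prod.ext (hF.Z_central _) (by simp))]
    show cz (s _ * (t _)⁻¹) = _
    have h1 : s ⟨_, hm⟩ = zm := F.emb_injective (hs _)
    have h2 : t ⟨_, hm⟩ = 1 := E.emb_eq_one.1 (ht _)
    rw [h1, h2, inv_one, mul_one, cz_zm]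
  have hτ2 : τ ⟨_, hZ2⟩ = Multiplicative.ofAdd 1 := by
    have hm : (⟨_, hZ2⟩ : D) ∈ SD := one_mem (F.S : Subgroup X)
    rw [hcentral _ hm fun g => Subtype.ext (Prod.ext (by simp) (hE.Z_central _))]
    show cz (s _ * (t _)⁻¹) = _
    have h1 : s ⟨_, hm⟩ = 1 := F.emb_eq_one.1 (hs _)
    have h2 : t ⟨_, hm⟩ = zm := E.emb_injective (ht _)
    rw [h1, h2, one_mul, inv_eq_of_mul_eq_one_right const_facts.2.2.2.2.2.2.2.2.1, cz_zm]
  have surj2 : Function.Surjective p2 := fun y => by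
    obtain ⟨x, hx⟩ := hF.mem_range.2 (hE.mem_range.1 ⟨y, rfl⟩)
    exact ⟨⟨(x, y), hx⟩, rfl⟩
  have two : ∀ a : Multiplicative (ZMod 2), a = 1 ∨ a * Multiplicative.ofAdd 1 = 1 := by decide
  have bij1 : Function.Bijective (p1.comp τ.ker.subtype) := by
    refine ⟨(injective_iff_map_eq_one _).2 fun d hd => ?_, fun x => ?_⟩
    · have h1 : d.1.1.1 = 1 := hd
      have h2 : hE.rep d.1.1.2 = 1 := by rw [← (memD _).1 d.1.2, h1, map_one]
      rcases hE.rep_eq_one h2 with e | e
      · exact Subtype.ext (Subtype.ext (Prod.ext h1 e))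
      · exfalso
        have : d.1 = ⟨_, hZ2⟩ := Subtype.ext (Prod.ext h1 e)
        exact absurd ((this ▸ MonoidHom.mem_ker.1 d.2 : τ ⟨_, hZ2⟩ = 1)) (by rw [hτ2]; decide)
    · obtain ⟨d, hd⟩ := surj1 x
      rcases two (τ d) with e | e
      · exact ⟨⟨d, e⟩, hd⟩
      · refine ⟨⟨d * ⟨_, hZ2⟩, ?_⟩, ?_⟩
        · rw [MonoidHom.mem_ker, map_mul, hτ2, e]
        · show p1 (d * _) = x
          rw [map_mul, hd]
          exact mul_one x
  have bij2 : Function.Bijective (p2.comp τ.ker.subtype) := by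
    refine ⟨(injective_iff_map_eq_one _).2 fun d hd => ?_, fun y => ?_⟩
    · have h1 : d.1.1.2 = 1 := hd
      have h2 : hF.rep d.1.1.1 = 1 := by rw [(memD _).1 d.1.2, h1, map_one]
      rcases hF.rep_eq_one h2 with e | e
      · exact Subtype.ext (Subtype.ext (Prod.ext e h1))
      · exfalso
        have : d.1 = ⟨_, hZ1⟩ := Subtype.ext (Prod.ext e h1)
        exact absurd ((this ▸ MonoidHom.mem_ker.1 d.2 : τ ⟨_, hZ1⟩ = 1)) (by rw [hτ1]; decide)
    · obtain ⟨d, hd⟩ := surj2 y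
      rcases two (τ d) with e | e
      · exact ⟨⟨d, e⟩, hd⟩
      · refine ⟨⟨d * ⟨_, hZ1⟩, ?_⟩, ?_⟩
        · rw [MonoidHom.mem_ker, map_mul, hτ1, e]
        · show p2 (d * _) = y
          rw [map_mul, hd]
          exact mul_one y
  exact ⟨(MulEquiv.ofBijective _ bij1).symm.trans (MulEquiv.ofBijective _ bij2)⟩

end CfsgLib.J2SylShape96
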